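import Mathlib
import Cfsg.Prelude.Def_CaseTheorems
import Cfsg.Agent.Lib.Helper3.PGroup

set_option autoImplicit false

namespace Cfsg.Agent.Lib.Helper77

open Subgroup
open scoped commutatorElement

/-- Basic consequence of a bound on the sectional 2-rank: if `N ≤ H` contains all squares of `H`
then `|H| ≤ 2 ^ k |N|`. -/
theorem card_le_of_sectionalRank {S : Type*} [Group S] [Finite S] {k : ℕ}
    (hr : Cfsg.SectionalPRankLE 2 k S) (H N : Subgroup S) (hNH : N ≤ H) (hsq : ∀ h ∈ H, h ^ 2 ∈ N) :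
    Nat.card H ≤ 2 ^ k * Nat.card N := by
  have hnorm : (N.subgroupOf H).Normal := by
    refine ⟨fun n hn h => ?_⟩
    rw [mem_subgroupOf] at hn ⊢
    have e : ((h * n * h⁻¹ : H) : S) = ((h : S) * n) ^ 2 * (n : S)⁻¹ * ((h : S)⁻¹) ^ 2 := by
      simp only [Subgroup.coe_mul, Subgroup.coe_inv, pow_two]; group
    rw [e]
    exact mul_mem (mul_mem (hsq _ (mul_mem h.2 n.2)) (inv_mem hn)) (hsq _ (inv_mem h.2))
  have hsq' : ∀ v : H ⧸ N.subgroupOf H, v ^ 2 = 1 := by
    intro v
    induction v using QuotientGroup.induction_on with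
    | H a =>
    rw [← QuotientGroup.mk_pow, QuotientGroup.eq_one_iff, mem_subgroupOf]
    exact hsq a a.2
  have hcomm : ∀ a b : H ⧸ N.subgroupOf H, a * b = b * a := by
    intro a b
    have ha' : a⁻¹ = a := by rw [inv_eq_iff_mul_eq_one, ← pow_two]; exact hsq' a
    have hb' : b⁻¹ = b := by rw [inv_eq_iff_mul_eq_one, ← pow_two]; exact hsq' b
    have hab' : (a * b)⁻¹ = a * b := by rw [inv_eq_iff_mul_eq_one, ← pow_two]; exact hsq' _
    rw [mul_inv_rev, ha', hb'] at hab'
    exact hab'.symm
  have h1 := hr H (N.subgroupOf H) ⊤ ⟨⟨fun a b => Subtype.ext (hcomm a b)⟩⟩ (fun a _ => hsq' a)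
  rw [card_top] at h1
  have h2 : Nat.card (H ⧸ N.subgroupOf H) = N.relIndex H := rfl
  have h3 : N.relIndex H * Nat.card N = Nat.card H := by
    have h4 := (N.subgroupOf H).card_mul_index
    have h5 : Nat.card (N.subgroupOf H) = Nat.card N := by
      rw [← card_map_of_injective H.subtype_injective, subgroupOf_map_subtype, inf_eq_left.2 hNH]
    rw [h5, mul_comm] at h4
    exact h4
  rw [← h3]
  exact Nat.mul_le_mul_right _ (h2 ▸ h1)

theorem two_mul_card_le_of_lt {S : Type*} [Group S] [Finite S] {K K' : Subgroup S} (h : K < K') :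
    2 * Nat.card K ≤ Nat.card K' := by
  obtain ⟨m, hm⟩ := card_dvd_of_le h.le
  have hlt : Nat.card K < Nat.card K' := Set.ncard_lt_ncard (SetLike.coe_ssubset_coe.2 h) (Set.toFinite _)
  have hpos : 0 < Nat.card K := Nat.card_pos
  rw [hm] at hlt ⊢
  have : 2 ≤ m := by
    by_contra hcon
    have : m = 0 ∨ m = 1 := by omega
    rcases this with rfl | rfl <;> simp at hlt
  calc 2 * Nat.card K = Nat.card K * 2 := by ring
    _ ≤ Nat.card K * m := Nat.mul_le_mul_left _ this

/-- In a noncommutative finite `p`-group the Frattini quotient is not cyclic. -/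
theorem exists_between_frattini {T : Type*} [Group T] [Finite T]
    (hc : ¬ IsMulCommutative T) : ∃ A : Subgroup T, frattini T < A ∧ A < ⊤ := by
  have hne : frattini T ≠ ⊤ := by
    intro h
    have h1 : (⊥ : Subgroup T) ⊔ frattini T = ⊤ := by rw [h]; simp
    have h2 : (⊥ : Subgroup T) = ⊤ := frattini_nongenerating h1
    apply hc
    refine ⟨⟨fun a b => ?_⟩⟩
    have ha : a ∈ (⊥ : Subgroup T) := h2 ▸ mem_top a
    have hb : b ∈ (⊥ : Subgroup T) := h2 ▸ mem_top b
    rw [mem_bot] at ha hb
    rw [ha, hb]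
  obtain ⟨x, -, hx⟩ := SetLike.exists_of_lt (lt_top_iff_ne_top.2 hne)
  refine ⟨zpowers x ⊔ frattini T, ?_, ?_⟩
  · refine lt_of_le_of_ne le_sup_right ?_
    intro h
    exact hx (h ▸ mem_sup_left (mem_zpowers x))
  · rw [lt_top_iff_ne_top]
    intro h
    have h1 : zpowers x = ⊤ := frattini_nongenerating h
    have : IsCyclic T := isCyclic_iff_exists_zpowers_eq_top.2 ⟨x, h1⟩
    exact hc inferInstance

/-- In a noncommutative finite `p`-group with centre of order `p`, the centre lies in the Frattini subgroup. -/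
theorem center_le_frattini {T : Type*} [Group T] [Finite T] {p : ℕ} [hp : Fact p.Prime] (hT : IsPGroup p T)
    (hc : ¬ IsMulCommutative T) (hZ : Nat.card (center T) = p) : center T ≤ frattini T := by
  have hcomm : _root_.commutator T ≠ ⊥ := by
    intro h
    apply hc
    refine ⟨⟨fun a b => ?_⟩⟩
    have h1 : ⁅a, b⁆ ∈ _root_.commutator T := commutator_mem_commutator (mem_top a) (mem_top b)
    rw [h, mem_bot, commutatorElement_eq_one_iff_mul_comm] at h1
    exact h1
  have h1 := Cfsg.Agent.Lib.Helper3.normal_inf_center_ne_bot' hT (_root_.commutator T) hcomm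
  have h2 : _root_.commutator T ⊓ center T = center T := by
    have h3 : Nat.card (_root_.commutator T ⊓ center T : Subgroup T) ∣ p := hZ ▸ card_dvd_of_le inf_le_right
    rcases (Nat.dvd_prime hp.out).1 h3 with h4 | h4
    · exact absurd (card_eq_one.1 h4) h1
    · exact eq_of_le_of_card_ge inf_le_right (by rw [h4, hZ])
  calc center T = _root_.commutator T ⊓ center T := h2.symm
    _ ≤ _root_.commutator T := inf_le_left
    _ ≤ frattini T := Cfsg.Agent.Lib.Helper3.commutator_le_frattini hT

theorem mem_map_center_iff {S : Type*} [Group S] (P : Subgroup S) (x : S) :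
    x ∈ (center P).map P.subtype ↔ x ∈ P ∧ ∀ y ∈ P, y * x = x * y := by
  constructor
  · rintro ⟨z, hz, rfl⟩
    refine ⟨z.2, fun y hy => ?_⟩
    have := (mem_center_iff.1 hz) ⟨y, hy⟩
    exact congrArg Subtype.val this
  · rintro ⟨hx, h⟩
    refine ⟨⟨x, hx⟩, ?_, rfl⟩
    rw [SetLike.mem_coe, mem_center_iff]
    intro y
    exact Subtype.ext (h y y.2)

end Cfsg.Agent.Lib.Helper77
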