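import Mathlib
import Cfsg.Prelude.Def_Characters
import Cfsg.Agent.Lib.Helper79.Eigen
import Cfsg.Agent.Lib.Helper4.CharIntegral

/-!
# An integral character value at a `p`-element is congruent to the degree mod `p`
-/

set_option autoImplicit false

namespace Cfsg.Agent.Lib.Helper77

open Cfsg

/-- If `∑ m μ * μ` (a sum of `p^a`-th roots of unity) is a rational integer `z`, then
`z ≡ ∑ m μ (mod p)`. -/
theorem int_sum_roots_modEq (p a : ℕ) (hp : p.Prime) (s : Finset ℂ) (m : ℂ → ℕ)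
    (hs : ∀ μ ∈ s, μ ^ (p ^ a) = 1) (z : ℤ) (hz : ∑ μ ∈ s, (m μ : ℂ) * μ = z) :
    z ≡ ((∑ μ ∈ s, m μ : ℕ) : ℤ) [ZMOD p] := by
  classical
  have : Fact p.Prime := ⟨hp⟩
  let O := integralClosure ℤ ℂ
  have hpos : 0 < p ^ a := pow_pos hp.pos a
  have hint : ∀ μ ∈ s, μ ∈ O := by
    intro μ hμ
    exact IsIntegral.of_pow hpos (by rw [hs μ hμ]; exact isIntegral_one)
  have key : ∀ w : ℤ, (∃ r : O, (w : ℂ) = (p : ℂ) * (r : ℂ)) → (p : ℤ) ∣ w := by
    rintro w ⟨r, hr⟩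
    have hp0 : (p : ℂ) ≠ 0 := by exact_mod_cast hp.pos.ne'
    have h1 : (r : ℂ) = (((w : ℚ) / (p : ℚ) : ℚ) : ℂ) := by
      push_cast
      field_simp
      rw [hr]; ring
    have h2 : IsIntegral ℤ ((((w : ℚ) / (p : ℚ) : ℚ)) : ℂ) := by rw [← h1]; exact r.2
    obtain ⟨y, hy⟩ := Cfsg.Agent.Lib.Helper4.exists_int_of_isIntegral_rat h2
    refine ⟨y, ?_⟩
    have hp0' : (p : ℚ) ≠ 0 := by exact_mod_cast hp.pos.ne'
    have : (w : ℚ) = (p : ℚ) * (y : ℚ) := by
      rw [← hy]; field_simp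
    exact_mod_cast this
  have hnu : (p : O) ∈ nonunits O := by
    intro hu
    obtain ⟨u, hu⟩ := hu
    have h1 : (p : O) * (↑u⁻¹ : O) = 1 := by rw [← hu]; simp
    have h2 : ((1 : ℤ) : ℂ) = (p : ℂ) * ((↑u⁻¹ : O) : ℂ) := by
      have := congrArg (fun x : O => (x : ℂ)) h1
      simp only [MulMemClass.coe_mul, OneMemClass.coe_one] at this
      rw [Int.cast_one, ← this]
      simp
    have h3 := key 1 ⟨_, h2⟩
    have h4 := Int.eq_one_of_dvd_one (by positivity) h3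
    have : p = 1 := by exact_mod_cast h4
    exact hp.one_lt.ne' this
  have hchar : CharP (O ⧸ (Ideal.span ({(p : O)} : Set O) : Ideal O)) p := CharP.quotient O p hnu
  let π := Ideal.Quotient.mk (Ideal.span ({(p : O)} : Set O) : Ideal O)
  let F := iterateFrobenius (O ⧸ (Ideal.span ({(p : O)} : Set O) : Ideal O)) p a
  let x : ℂ → O := fun μ => if h : μ ∈ s then ⟨μ, hint μ h⟩ else 0
  have hx : ∀ μ ∈ s, ((x μ : O) : ℂ) = μ := by
    intro μ hμ
    simp only [x, dif_pos hμ]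
  have e1 : (∑ μ ∈ s, (m μ : O) * x μ) = (z : O) := by
    apply Subtype.ext
    have h0 : (((z : O) : O) : ℂ) = (z : ℂ) := by simp
    rw [h0, ← hz, AddSubmonoidClass.coe_finsetSum]
    refine Finset.sum_congr rfl fun μ hμ => ?_
    rw [MulMemClass.coe_mul, hx μ hμ]
    simp
  have e2 : F (π (∑ μ ∈ s, (m μ : O) * x μ)) = π ((∑ μ ∈ s, m μ : ℕ) : O) := by
    rw [map_sum, map_sum]
    push_cast
    rw [map_sum]
    refine Finset.sum_congr rfl fun μ hμ => ?_
    rw [map_mul, map_mul, map_natCast, map_natCast, iterateFrobenius_def, ← map_pow]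
    have : x μ ^ p ^ a = 1 := by
      apply Subtype.ext
      push_cast
      rw [hx μ hμ, hs μ hμ]
    rw [this, map_one, mul_one]
  rw [e1, map_intCast, map_intCast] at e2
  have e3 : π ((z : O) - ((∑ μ ∈ s, m μ : ℕ) : O)) = 0 := by
    rw [map_sub, map_intCast, e2, sub_self]
  rw [Ideal.Quotient.eq_zero_iff_mem, Ideal.mem_span_singleton] at e3
  obtain ⟨r, hr⟩ := e3
  have h5 := key (z - ((∑ μ ∈ s, m μ : ℕ) : ℤ)) ⟨r, by
    have := congrArg (fun x : O => (x : ℂ)) hr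
    simp only [MulMemClass.coe_mul] at this
    push_cast at this ⊢
    simpa using this⟩
  exact (Int.modEq_iff_dvd.2 (by
    have : ((∑ μ ∈ s, m μ : ℕ) : ℤ) - z = -(z - ((∑ μ ∈ s, m μ : ℕ) : ℤ)) := by ring
    rw [this]; exact (dvd_neg).2 h5))

theorem IsCharacter.int_value_modEq {G : Type*} [Group G] {χ : G → ℂ} (hχ : IsCharacter G χ)
    (p a : ℕ) (hp : p.Prime) (g : G) (hg : g ^ (p ^ a) = 1) (z : ℤ) (hz : χ g = z) (d : ℕ)
    (hd : χ 1 = d) : z ≡ d [ZMOD p] := by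
  obtain ⟨s, m, h1, h2, h3⟩ :=
    Cfsg.Agent.Lib.Helper79.IsCharacter.exists_weights χ hχ g (p ^ a) (pow_pos hp.pos a) hg
  have e := h3 1
  simp only [pow_one] at e
  have := int_sum_roots_modEq p a hp s m h1 z (by rw [← e, hz])
  have hd' : (∑ μ ∈ s, m μ : ℕ) = d := by
    have : ((∑ μ ∈ s, m μ : ℕ) : ℂ) = (d : ℂ) := by rw [h2, hd]
    exact_mod_cast this
  rw [hd'] at this
  exact this

end Cfsg.Agent.Lib.Helper77
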