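import Mathlib
import Cfsg.Agent.S1496

/-!
# Counting in a coset `G s` of a coprime normalising element (Glauberman correspondence, step 1)
-/

set_option autoImplicit false

namespace Cfsg.Agent.Lib.Helper77

open Subgroup

theorem exists_pow_trick {Γ : Type*} [Group Γ] (n : ℕ) (s : Γ) (hcop : (orderOf s).Coprime n) :
    ∃ k : ℕ, s ^ k = s ∧ n ∣ k := by
  obtain ⟨k, hk1, hk2⟩ := Nat.chineseRemainder hcop 1 0
  refine ⟨k, ?_, (Nat.modEq_zero_iff_dvd).1 hk2⟩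
  have := (pow_eq_pow_iff_modEq (x := s)).2 hk1
  simpa using this

theorem pow_eq_one_of_mem_of_dvd {Γ : Type*} [Group Γ] (G : Subgroup Γ) {c : Γ} (hc : c ∈ G)
    {k : ℕ} (hk : Nat.card G ∣ k) : c ^ k = 1 :=
  orderOf_dvd_iff_pow_eq_one.1 ((Subgroup.orderOf_dvd_natCard G hc).trans hk)

/-- `s` is a power of `c * s` when `c ∈ G` commutes with `s`. -/
theorem exists_pow_mul_eq {Γ : Type*} [Group Γ] (G : Subgroup Γ) (s : Γ)
    (hcop : (orderOf s).Coprime (Nat.card G)) :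
    ∃ k : ℕ, ∀ c ∈ G, c * s = s * c → (c * s) ^ k = s := by
  obtain ⟨k, hk1, hk2⟩ := exists_pow_trick (Nat.card G) s hcop
  refine ⟨k, fun c hc hcs => ?_⟩
  have hcomm : Commute c s := hcs
  rw [hcomm.mul_pow, pow_eq_one_of_mem_of_dvd G hc hk2, hk1, one_mul]

theorem conj_coset_aux {Γ : Type*} [Group Γ] (G : Subgroup Γ) (s : Γ)
    (hcop : (orderOf s).Coprime (Nat.card G)) {c c' z : Γ} (hc : c ∈ G) (hcs : c * s = s * c)
    (hc' : c' ∈ G) (hcs' : c' * s = s * c') (h : z * (c * s) * z⁻¹ = c' * s) :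
    z * s * z⁻¹ = s ∧ z * c * z⁻¹ = c' := by
  obtain ⟨k, hk⟩ := exists_pow_mul_eq G s hcop
  have h1 : z * s * z⁻¹ = s := by
    have := congrArg (· ^ k) h
    simp only [conj_pow, hk c hc hcs, hk c' hc' hcs'] at this
    exact this
  refine ⟨h1, ?_⟩
  have h2 : z * (c * s) * z⁻¹ = (z * c * z⁻¹) * (z * s * z⁻¹) := by group
  rw [h2, h1] at h
  exact mul_right_cancel h

/-- commuting with `c * s` is the same as commuting with both `c` and `s`. -/
theorem commute_mul_iff {Γ : Type*} [Group Γ] (G : Subgroup Γ) (s : Γ)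
    (hcop : (orderOf s).Coprime (Nat.card G)) {c z : Γ} (hc : c ∈ G) (hcs : c * s = s * c) :
    z * (c * s) = (c * s) * z ↔ (z * s = s * z ∧ z * c = c * z) := by
  constructor
  · intro h
    have h' : z * (c * s) * z⁻¹ = c * s := by rw [h]; group
    obtain ⟨h1, h2⟩ := conj_coset_aux G s hcop hc hcs hc hcs h'
    exact ⟨(mul_inv_eq_iff_eq_mul.1 h1), (mul_inv_eq_iff_eq_mul.1 h2)⟩
  · rintro ⟨h1, h2⟩
    rw [← mul_assoc, h2, mul_assoc, h1, mul_assoc]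

theorem sum_coset_eq {Γ : Type*} [Group Γ] [Finite Γ] (G : Subgroup Γ) (s : Γ)
    (hs : s ∈ Subgroup.normalizer (G : Set Γ)) (hcop : (orderOf s).Coprime (Nat.card G))
    (C : Subgroup Γ) (hC : C = G ⊓ Subgroup.centralizer ({s} : Set Γ)) [Fintype G] [Fintype C]
    (f : Γ → ℂ) (hf : ∀ x ∈ G, ∀ y, f (x * y * x⁻¹) = f y) :
    (Nat.card C : ℂ) * ∑ g : G, f ((g : Γ) * s) = (Nat.card G : ℂ) * ∑ c : C, f ((c : Γ) * s) := by
  classical
  have hCle : C ≤ G ⊓ Subgroup.centralizer ({s} : Set Γ) := hC.le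
  have hCG : ∀ c : C, (c : Γ) ∈ G := fun c => (mem_inf.1 (hCle c.2)).1
  have hCs : ∀ c : C, (c : Γ) * s = s * c := fun c =>
    ((mem_centralizer_singleton_iff.1 (mem_inf.1 (hCle c.2)).2))
  have hmemC : ∀ z : Γ, z ∈ G → z * s = s * z → z ∈ C := fun z hz h => by
    rw [hC]; exact mem_inf.2 ⟨hz, mem_centralizer_singleton_iff.2 h⟩
  have hsG : ∀ x ∈ G, s * x * s⁻¹ ∈ G := fun x hx => (mem_normalizer_iff.1 hs x).1 hx
  let φ : G × C → G := fun a =>
    ⟨a.1 * a.2 * (s * (a.1 : Γ)⁻¹ * s⁻¹), G.mul_mem (G.mul_mem a.1.2 (hCG a.2))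
      (hsG _ (G.inv_mem a.1.2))⟩
  have hφ : ∀ a : G × C, ((φ a : G) : Γ) * s = (a.1 : Γ) * ((a.2 : Γ) * s) * (a.1 : Γ)⁻¹ := by
    intro a
    show (a.1 : Γ) * a.2 * (s * (a.1 : Γ)⁻¹ * s⁻¹) * s = _
    group
  have hfib : ∀ g : G, Fintype.card {a : G × C // φ a = g} = Nat.card C := by
    intro g
    obtain ⟨x₀, hx₀, c₀, hc₀, hcs₀, h₀⟩ := Cfsg.Agent.S1496.result G s hs hcop (g : Γ) g.2
    rw [← Nat.card_eq_fintype_card]
    symm
    have hc₀C : c₀ ∈ C := hmemC c₀ hc₀ hcs₀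
    have hg : (g : Γ) * s = x₀⁻¹ * (c₀ * s) * x₀ := by rw [← h₀]; group
    refine Nat.card_congr (Equiv.ofBijective (fun z : C =>
      (⟨(⟨x₀⁻¹ * z, G.mul_mem (G.inv_mem hx₀) (hCG z)⟩,
        ⟨(z : Γ)⁻¹ * c₀ * z, C.mul_mem (C.mul_mem (C.inv_mem z.2) hc₀C) z.2⟩), ?_⟩ :
        {a : G × C // φ a = g})) ⟨?_, ?_⟩)
    · apply Subtype.ext
      apply mul_right_cancel (b := s)
      rw [hφ, hg]
      show x₀⁻¹ * (z : Γ) * ((z : Γ)⁻¹ * c₀ * z * s) * (x₀⁻¹ * (z : Γ))⁻¹ = _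
      have hz := hCs z
      have : (z : Γ)⁻¹ * c₀ * z * s = (z : Γ)⁻¹ * (c₀ * s) * z := by
        rw [mul_assoc _ (z : Γ) s, hz]; group
      rw [this]; group
    · intro z z' h
      have h1 := congrArg (fun a : {a : G × C // φ a = g} => ((a.1.1 : G) : Γ)) h
      simp only at h1
      exact Subtype.ext (mul_left_cancel h1)
    · rintro ⟨⟨x, c⟩, hxc⟩
      have h1 : (x : Γ) * ((c : Γ) * s) * (x : Γ)⁻¹ = x₀⁻¹ * (c₀ * s) * x₀ := by
        rw [← hφ (x, c), hxc, hg]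
      have h2 : (x₀ * x) * ((c : Γ) * s) * (x₀ * x)⁻¹ = c₀ * s := by
        have : (x₀ * x) * ((c : Γ) * s) * (x₀ * x)⁻¹
            = x₀ * ((x : Γ) * ((c : Γ) * s) * (x : Γ)⁻¹) * x₀⁻¹ := by group
        rw [this, h1]; group
      obtain ⟨h3, h4⟩ := conj_coset_aux G s hcop (hCG c) (hCs c) hc₀ hcs₀ h2
      have hz : x₀ * x ∈ C := hmemC _ (G.mul_mem hx₀ x.2) (by
        calc x₀ * x * s = (x₀ * x * s * (x₀ * x)⁻¹) * (x₀ * x) := by group
          _ = s * (x₀ * x) := by rw [h3])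
      refine ⟨⟨x₀ * x, hz⟩, ?_⟩
      apply Subtype.ext
      apply Prod.ext
      · apply Subtype.ext
        show x₀⁻¹ * (x₀ * x) = x
        group
      · apply Subtype.ext
        show (x₀ * (x : Γ))⁻¹ * c₀ * (x₀ * x) = c
        rw [← h4]; group
  have h1 : ∑ a : G × C, f (((φ a : G) : Γ) * s) = (Nat.card G : ℂ) * ∑ c : C, f ((c : Γ) * s) := by
    rw [Fintype.sum_prod_type]
    simp only [hφ, hf _ (Subtype.coe_prop _)]
    simp [Finset.sum_const, Finset.card_univ, Nat.card_eq_fintype_card]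
  rw [← h1, ← Fintype.sum_fiberwise φ (fun a => f (((φ a : G) : Γ) * s)), Finset.mul_sum]
  refine Finset.sum_congr rfl fun g _ => ?_
  have : ∀ a : {a : G × C // φ a = g}, f (((φ a.1 : G) : Γ) * s) = f ((g : Γ) * s) := by
    intro a; rw [a.2]
  simp only [this]
  simp [Finset.sum_const, Finset.card_univ, hfib g]

end Cfsg.Agent.Lib.Helper77
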