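import Mathlib
import Cfsg.Agent.Lib.Helper77.GlaubCount
import Cfsg.Agent.Lib.Helper79.PermLemma
import Cfsg.Agent.Lib.Helper5.Clifford
import Cfsg.Agent.Lib.Helper20.CharCount

/-!
# Number of `s`-invariant irreducible characters = class number of the centraliser
-/

set_option autoImplicit false

namespace Cfsg.Agent.Lib.Helper77

open Subgroup

/-- `χ` (a function on the subgroup `G` of `Γ`) is invariant under conjugation by `s`. -/
def InvUnder {Γ : Type*} [Group Γ] (G : Subgroup Γ) (s : Γ) (χ : G → ℂ) : Prop :=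
  ∀ g g' : G, (g' : Γ) = s * g * s⁻¹ → χ g' = χ g

/-- conjugation by a normalising element as an automorphism of the subgroup. -/
noncomputable def cjAut {Γ : Type*} [Group Γ] (G : Subgroup Γ) (s : Γ)
    (hs : s ∈ Subgroup.normalizer (G : Set Γ)) : G ≃* G :=
  G.normalizerMonoidHom ⟨s, hs⟩

theorem cjAut_coe {Γ : Type*} [Group Γ] (G : Subgroup Γ) (s : Γ)
    (hs : s ∈ Subgroup.normalizer (G : Set Γ)) (g : G) : ((cjAut G s hs g : G) : Γ) = s * g * s⁻¹ :=
  rfl

theorem invUnder_iff {Γ : Type*} [Group Γ] (G : Subgroup Γ) (s : Γ)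
    (hs : s ∈ Subgroup.normalizer (G : Set Γ)) (χ : G → ℂ) :
    InvUnder G s χ ↔ ∀ g, χ (cjAut G s hs g) = χ g := by
  constructor
  · intro h g
    exact h g _ (cjAut_coe G s hs g)
  · intro h g g' hg
    have : g' = cjAut G s hs g := Subtype.ext (by rw [hg, cjAut_coe])
    rw [this, h]

/-- the elements of `N_Γ(G)` fixing `χ`. -/
def stabSub {Γ : Type*} [Group Γ] (G : Subgroup Γ) (χ : G → ℂ) : Subgroup Γ where
  carrier := {x | x ∈ Subgroup.normalizer (G : Set Γ) ∧ InvUnder G x χ}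
  one_mem' := by
    refine ⟨one_mem _, ?_⟩
    intro g g' h
    have : g' = g := Subtype.ext (by rw [h]; group)
    rw [this]
  mul_mem' := by
    rintro a b ⟨ha1, ha2⟩ ⟨hb1, hb2⟩
    refine ⟨mul_mem ha1 hb1, ?_⟩
    intro g g' h
    have hm : b * g * b⁻¹ ∈ G := (mem_normalizer_iff.1 hb1 g).1 g.2
    rw [ha2 ⟨b * g * b⁻¹, hm⟩ g' (by rw [h]; group), hb2 g ⟨b * g * b⁻¹, hm⟩ rfl]
  inv_mem' := by
    rintro a ⟨ha1, ha2⟩
    refine ⟨inv_mem ha1, ?_⟩
    intro g g' h
    exact (ha2 g' g (by rw [h]; group)).symm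

theorem mem_stabSub {Γ : Type*} [Group Γ] (G : Subgroup Γ) (χ : G → ℂ) (x : Γ) :
    x ∈ stabSub G χ ↔ x ∈ Subgroup.normalizer (G : Set Γ) ∧ InvUnder G x χ := Iff.rfl

theorem le_stabSub_self {Γ : Type*} [Group Γ] (G : Subgroup Γ) {χ : G → ℂ}
    (hχ : Cfsg.IsClassFunction G χ) : G ≤ stabSub G χ := by
  intro x hx
  refine ⟨le_normalizer hx, ?_⟩
  intro g g' h
  have : g' = ⟨x, hx⟩ * g * ⟨x, hx⟩⁻¹ := Subtype.ext h
  rw [this, hχ]

theorem card_inv_irr_eq {Γ : Type*} [Group Γ] [Finite Γ] (G : Subgroup Γ) (s : Γ)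
    (hs : s ∈ Subgroup.normalizer (G : Set Γ)) (hcop : (orderOf s).Coprime (Nat.card G))
    (C : Subgroup Γ) (hC : C = G ⊓ Subgroup.centralizer ({s} : Set Γ)) :
    Nat.card {χ : Cfsg.IrrCharacter G // InvUnder G s (χ : G → ℂ)} = Nat.card (ConjClasses C) := by
  classical
  have : Fintype G := Fintype.ofFinite G
  have : Fintype C := Fintype.ofFinite C
  set a := cjAut G s hs with ha_def
  have hCle : C ≤ G ⊓ Subgroup.centralizer ({s} : Set Γ) := hC.le
  have hCG : ∀ c : C, (c : Γ) ∈ G := fun c => (mem_inf.1 (hCle c.2)).1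
  have hCs : ∀ c : C, (c : Γ) * s = s * c := fun c =>
    ((mem_centralizer_singleton_iff.1 (mem_inf.1 (hCle c.2)).2))
  have hmemC : ∀ z : Γ, z ∈ G → z * s = s * z → z ∈ C := fun z hz h => by
    rw [hC]; exact mem_inf.2 ⟨hz, mem_centralizer_singleton_iff.2 h⟩
  have e1 : Nat.card {χ : Cfsg.IrrCharacter G // InvUnder G s (χ : G → ℂ)} =
      Nat.card {χ : Cfsg.IrrCharacter G // ∀ g, (χ : G → ℂ) (a g) = (χ : G → ℂ) g} :=
    Nat.card_congr (Equiv.subtypeEquivRight fun χ => invUnder_iff G s hs _)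
  let Q : ConjClasses G → Prop := fun K => ∀ g, ConjClasses.mk g = K → IsConj (a g) g
  have hQ : ∀ g : G, Q (ConjClasses.mk g) ↔ IsConj (a g) g := by
    intro g
    constructor
    · intro h; exact h g rfl
    · intro h g' hg'
      have h1 : IsConj g' g := ConjClasses.mk_eq_mk_iff_isConj.1 hg'
      have h2 : IsConj (a g') (a g) := by
        obtain ⟨c, hc⟩ := isConj_iff.1 h1
        exact isConj_iff.2 ⟨a c, by rw [← hc]; simp⟩
      exact (h2.trans h).trans h1.symm
  have e2 := Cfsg.Agent.Lib.Helper79.card_fixed_irr_eq (a : G → G)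
    (fun χ hχ => Cfsg.Agent.Lib.Helper5.isIrrCharacter_comp_equiv a hχ) Q hQ
  rw [e1, e2]
  have e3 := Cfsg.Agent.Lib.Helper79.sum_card_centralizer_eq Q
  let F : Γ → ℂ := fun y => (Nat.card {g : G // y * (g : Γ) = g * y} : ℂ)
  have hF : ∀ x ∈ G, ∀ y, F (x * y * x⁻¹) = F y := by
    intro x hx y
    show ((Nat.card {g : G // (x * y * x⁻¹) * (g : Γ) = g * (x * y * x⁻¹)} : ℕ) : ℂ) =
      ((Nat.card {g : G // y * (g : Γ) = g * y} : ℕ) : ℂ)
    congr 1
    refine Nat.card_congr ((MulAut.conj (⟨x, hx⟩ : G)⁻¹).toEquiv.subtypeEquiv ?_)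
    intro g
    show _ ↔ y * (x⁻¹ * (g : Γ) * x⁻¹⁻¹) = (x⁻¹ * (g : Γ) * x⁻¹⁻¹) * y
    constructor
    · intro h
      have : y * (x⁻¹ * (g : Γ) * x⁻¹⁻¹) = x⁻¹ * ((x * y * x⁻¹) * (g : Γ)) * x := by group
      rw [this, h]; group
    · intro h
      have : (x * y * x⁻¹) * (g : Γ) = x * (y * (x⁻¹ * (g : Γ) * x⁻¹⁻¹)) * x⁻¹ := by group
      rw [this, h]; group
  have e4 := sum_coset_eq G s hs hcop C hC F hF
  -- left side
  have e5 : ∀ g : G, (if Q (ConjClasses.mk g) then
      (Nat.card (Subgroup.centralizer ({g} : Set G)) : ℂ) else 0) =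
      (Nat.card {x : G // x * g * x⁻¹ = a g} : ℂ) := by
    intro g
    split_ifs with h
    · rw [hQ] at h
      obtain ⟨x₀, hx₀⟩ := isConj_iff.1 h.symm
      congr 1
      refine Nat.card_congr (Equiv.ofBijective (fun z : Subgroup.centralizer ({g} : Set G) =>
        (⟨x₀ * z, ?_⟩ : {x : G // x * g * x⁻¹ = a g})) ⟨?_, ?_⟩)
      · have hz : (z : G) * g = g * z := mem_centralizer_singleton_iff.1 z.2
        rw [← hx₀]
        have : x₀ * (z : G) * g * (x₀ * (z : G))⁻¹ = x₀ * ((z : G) * g * (z : G)⁻¹) * x₀⁻¹ := by group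
        rw [this, hz]; group
      · intro z z' h
        have := congrArg Subtype.val h
        exact Subtype.ext (mul_left_cancel this)
      · rintro ⟨x, hx⟩
        refine ⟨⟨x₀⁻¹ * x, mem_centralizer_singleton_iff.2 ?_⟩, Subtype.ext (by simp)⟩
        have h1 : x * g = x₀ * g * x₀⁻¹ * x := by rw [hx₀, ← hx]; group
        calc x₀⁻¹ * x * g = x₀⁻¹ * (x * g) := by group
          _ = g * (x₀⁻¹ * x) := by rw [h1]; group
    · rw [hQ] at h
      have : IsEmpty {x : G // x * g * x⁻¹ = a g} := by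
        constructor
        rintro ⟨x, hx⟩
        exact h (isConj_iff.2 ⟨x, hx⟩).symm
      simp
  have e6 : ∑ g : G, (Nat.card {x : G // x * g * x⁻¹ = a g} : ℂ) = ∑ x : G, F ((x : Γ) * s) := by
    have h1 : ∀ g : G, (Nat.card {x : G // x * g * x⁻¹ = a g} : ℂ) =
        ∑ x : G, if x * g * x⁻¹ = a g then 1 else 0 := by
      intro g
      rw [Nat.card_eq_fintype_card, Fintype.card_subtype]
      simp
    have h2 : ∀ x : G, F ((x : Γ) * s) = ∑ g : G, if x⁻¹ * g * x⁻¹⁻¹ = a g then 1 else 0 := by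
      intro x
      show ((Nat.card {g : G // ((x : Γ) * s) * (g : Γ) = g * ((x : Γ) * s)} : ℕ) : ℂ) = _
      rw [Nat.card_eq_fintype_card, Fintype.card_subtype]
      simp only [Finset.sum_boole, Nat.cast_inj]
      congr 1
      ext g
      simp only [Finset.mem_filter, Finset.mem_univ, true_and]
      rw [Subtype.ext_iff, cjAut_coe]
      show _ ↔ (x : Γ)⁻¹ * g * (x : Γ)⁻¹⁻¹ = s * g * s⁻¹
      constructor
      · intro h
        have : s * (g : Γ) * s⁻¹ = (x : Γ)⁻¹ * ((x : Γ) * s * g) * s⁻¹ := by group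
        rw [this, h]; group
      · intro h
        have : (x : Γ) * s * g = x * (s * g * s⁻¹) * s := by group
        rw [this, ← h]; group
    simp only [h1, h2]
    rw [Finset.sum_comm]
    exact (Equiv.sum_comp (Equiv.inv G) (fun x => ∑ g : G, if x * g * x⁻¹ = a g then (1 : ℂ) else 0)).symm
  have e7 : ∀ c : C, F ((c : Γ) * s) = (Nat.card (Subgroup.centralizer ({c} : Set C)) : ℂ) := by
    intro c
    show ((Nat.card {g : G // ((c : Γ) * s) * (g : Γ) = g * ((c : Γ) * s)} : ℕ) : ℂ) = _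
    congr 1
    symm
    refine Nat.card_congr (Equiv.ofBijective (fun z : Subgroup.centralizer ({c} : Set C) =>
        (⟨⟨((z : C) : Γ), hCG z⟩, ?_⟩ : {g : G // ((c : Γ) * s) * (g : Γ) = g * ((c : Γ) * s)}))
        ⟨?_, ?_⟩)
    · have hz : (z : C) * c = c * z := mem_centralizer_singleton_iff.1 z.2
      have hz' : ((z : C) : Γ) * c = c * (z : C) := congrArg Subtype.val hz
      exact ((commute_mul_iff G s hcop (hCG c) (hCs c)).2 ⟨hCs z, hz'⟩).symm
    · intro z z' h
      have := congrArg (fun a : {g : G // ((c : Γ) * s) * (g : Γ) = g * ((c : Γ) * s)} =>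
        ((a : G) : Γ)) h
      exact Subtype.ext (Subtype.ext this)
    · rintro ⟨g, hg⟩
      obtain ⟨h1, h2⟩ := (commute_mul_iff G s hcop (hCG c) (hCs c)).1 hg.symm
      exact ⟨⟨⟨g, hmemC g g.2 h1⟩, mem_centralizer_singleton_iff.2 (Subtype.ext h2)⟩, rfl⟩
  have e8 := Cfsg.Agent.Lib.Helper79.sum_card_centralizer_eq (G := C) (fun _ => True)
  simp only [if_true] at e8
  have e9 : Nat.card {K : ConjClasses C // True} = Nat.card (ConjClasses C) :=
    Nat.card_congr (Equiv.subtypeUnivEquiv fun _ => trivial)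
  rw [e9] at e8
  simp only [e5] at e3
  rw [e6] at e3
  simp only [e7] at e4
  rw [e3, e8] at e4
  have hG0 : (Nat.card G : ℂ) ≠ 0 := by exact_mod_cast Nat.card_pos.ne'
  have hC0 : (Nat.card C : ℂ) ≠ 0 := by exact_mod_cast Nat.card_pos.ne'
  have : (Nat.card {K : ConjClasses G // Q K} : ℂ) = (Nat.card (ConjClasses C) : ℂ) := by
    have h : (Nat.card C : ℂ) * (Nat.card G : ℂ) * (Nat.card {K : ConjClasses G // Q K} : ℂ) =
        (Nat.card C : ℂ) * (Nat.card G : ℂ) * (Nat.card (ConjClasses C) : ℂ) := by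
      linear_combination e4
    exact mul_left_cancel₀ (mul_ne_zero hC0 hG0) h
  exact_mod_cast this

end Cfsg.Agent.Lib.Helper77
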