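import Mathlib
import Cfsg.Prelude.Def_CharExt
import Cfsg.Agent.Lib.Helper77.GlaubCount2
import Cfsg.Agent.Lib.Helper79.NAverage
import Cfsg.Agent.Lib.Helper79.GaloisChar
import Cfsg.Agent.Lib.Helper79.GaloisRat
import Cfsg.Agent.Lib.Helper19.DetChar
import Cfsg.Agent.Lib.Helper19.IndChar
import Cfsg.Agent.Lib.Helper32.GenChar
import Cfsg.Agent.Lib.Helper82.Linear
import Cfsg.Agent.Lib.Helper4.CharIntegral
import Cfsg.Agent.S0862
import Cfsg.Agent.S0135
import Cfsg.Agent.S0140

/-!
# Glauberman correspondence: general character-theoretic lemmas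
-/

set_option autoImplicit false

namespace Cfsg.Agent.Lib.Helper77

open Subgroup Cfsg Cfsg.Agent.Lib.Helper20 Cfsg.Agent.Lib.Helper19 Cfsg.Agent.Lib.Helper79
open scoped ComplexConjugate

theorem genChar_of_classInner_int {G : Type*} [Group G] [Fintype G] {ψ : G → ℂ}
    (hψ : IsClassFunction G ψ)
    (h : ∀ χ : G → ℂ, IsIrrCharacter G χ → ∃ n : ℤ, classInner ψ χ = n) :
    IsGeneralizedCharacter G ψ := by
  classical
  have := finite_irrCharacter (G := G)
  have := Fintype.ofFinite (IrrCharacter G)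
  rw [eq_sum_classInner_smul hψ]
  apply Cfsg.Agent.Lib.Helper32.genChar_sum
  intro χ _
  obtain ⟨n, hn⟩ := h χ χ.2
  rw [hn]
  exact Cfsg.Agent.Lib.Helper32.genChar_intCast_smul (Cfsg.Agent.Lib.Helper32.genChar_of_irr χ.2) n

/-- multiplicity-space character -/
theorem isCharacter_partialInner {H K : Type*} [Group H] [Group K] [Fintype H] [Fintype K]
    {Φ : H × K → ℂ} (hΦ : IsCharacter (H × K) Φ) {β : H → ℂ} (hβ : IsCharacter H β) :
    IsCharacter K (fun t => classInner (fun h => Φ (h, t)) β) := by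
  apply isCharacter_of_classInner_nat
  · intro g k
    have hcl := isClassFunction_of_isCharacter hΦ
    have : ∀ h : H, Φ (h, k * g * k⁻¹) = Φ (h, g) := by
      intro h
      have := hcl (h, g) (1, k)
      simpa using this
    simp only [this]
  · intro μ hμ
    have h1 : IsCharacter (H × K) (fun a => β a.1 * μ a.2) :=
      isCharacter_mul (isCharacter_comp_hom hβ (MonoidHom.fst H K))
        (isCharacter_comp_hom (isCharacter_of_isIrrCharacter hμ) (MonoidHom.snd H K))
    obtain ⟨n, hn⟩ := isCharacter_classInner_nat' hΦ h1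
    refine ⟨n, ?_⟩
    rw [← hn]
    unfold classInner
    rw [Nat.card_prod, Fintype.sum_prod_type_right]
    push_cast
    rw [Finset.mul_sum, Finset.mul_sum]
    refine Finset.sum_congr rfl fun t _ => ?_
    rw [Finset.mul_sum, Finset.sum_mul, Finset.mul_sum, Finset.mul_sum]
    refine Finset.sum_congr rfl fun h _ => ?_
    simp only [map_mul]
    rw [mul_inv]
    ring

theorem detChar_ringHom_comp {G : Type*} [Group G] [Finite G] (τ : ℂ →+* ℂ) {χ : G → ℂ}
    (h : IsCharacter G χ) : detChar (fun g => τ (χ g)) = fun g => τ (detChar χ g) := by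
  obtain ⟨d, ρ, rfl⟩ := h
  have h1 : (fun g => τ (ρ.character g)) = (galoisRep τ ρ).character :=
    funext fun g => (galoisRep_character τ ρ g).symm
  rw [h1, detChar_eq, detChar_eq]
  funext g
  show LinearMap.det (Matrix.toLin' ((LinearMap.toMatrix' (ρ g)).map τ)) = τ (LinearMap.det (ρ g))
  rw [LinearMap.det_toLin', ← LinearMap.det_toMatrix' (ρ g), RingHom.map_det]
  rfl

theorem irr_degree_dvd {G : Type*} [Group G] [Finite G] {χ : G → ℂ} (h : IsIrrCharacter G χ) :
    ∃ d : ℕ, χ 1 = d ∧ d ∣ Nat.card G ∧ 0 < d := by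
  obtain ⟨n, ρ, hρ, rfl⟩ := h
  have := hρ
  refine ⟨Module.finrank ℂ (Fin n → ℂ), Representation.char_one ρ, Cfsg.Agent.S0135.result ρ, ?_⟩
  exact Cfsg.Agent.Lib.Helper79.IsIrreducible.finrank_pos ρ

theorem isCharacter_isIntegral {G : Type*} [Group G] [Finite G] {χ : G → ℂ} (h : IsCharacter G χ)
    (g : G) : IsIntegral ℤ (χ g) := by
  obtain ⟨n, ρ, rfl⟩ := h
  exact Cfsg.Agent.S0140.result ρ g

section Coset

variable {Γ : Type*} [Group Γ] [Fintype Γ] (G : Subgroup Γ) [hGn : G.Normal] [Fintype G]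

theorem navg_ext_ne {χh χh' : Γ → ℂ} (h : IsIrrCharacter Γ χh) (h' : IsIrrCharacter Γ χh')
    (hr : IsIrrCharacter G (fun g : G => χh g)) (hr' : IsIrrCharacter G (fun g : G => χh' g))
    (hne : (fun g : G => χh g) ≠ (fun g : G => χh' g)) (t : Γ) :
    navg G (fun x => χh x * conj (χh' x)) t = 0 := by
  have hA : IsCharacter Γ (navg G (fun x => χh x * conj (χh' x))) :=
    navg_isCharacter G (isCharacter_mul (isCharacter_of_isIrrCharacter h)
      (isCharacter_conj (isCharacter_of_isIrrCharacter h')))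
  have h1 : navg G (fun x => χh x * conj (χh' x)) 1 = 0 := by
    rw [navg_mul_conj_one]
    exact classInner_irr_ne hr hr' hne
  rw [IsCharacter.eq_zero_of_one_eq_zero hA h1]
  rfl

theorem navg_ext_self {χh : Γ → ℂ} (h : IsIrrCharacter Γ χh)
    (hr : IsIrrCharacter G (fun g : G => χh g)) (t : Γ) :
    navg G (fun x => χh x * conj (χh x)) t = 1 := by
  classical
  have hA : IsCharacter Γ (navg G (fun x => χh x * conj (χh x))) :=
    navg_isCharacter G (isCharacter_mul (isCharacter_of_isIrrCharacter h)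
      (isCharacter_conj (isCharacter_of_isIrrCharacter h)))
  have h1 : navg G (fun x => χh x * conj (χh x)) 1 = 1 := by
    rw [navg_mul_conj_one]
    exact classInner_irr_self hr
  have hAirr := Cfsg.Agent.Lib.Helper82.isChar_linear_isIrr hA h1
  have h1irr : IsIrrCharacter Γ (fun _ => (1 : ℂ)) :=
    Cfsg.Agent.Lib.Helper82.isChar_linear_isIrr isCharacter_one rfl
  have h2 : classInner (navg G (fun x => χh x * conj (χh x))) (fun _ => (1 : ℂ)) = 1 := by
    rw [classInner_navg_left G _ _ (fun _ _ => rfl)]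
    have h3 : classInner (fun x => χh x * conj (χh x)) (fun _ => (1 : ℂ)) = classInner χh χh := by
      unfold classInner
      simp
    rw [h3, classInner_irr_self h]
  rw [classInner_irr hAirr h1irr] at h2
  split_ifs at h2 with h3
  · rw [h3]
  · exact absurd h2 zero_ne_one

end Coset

theorem classInner_tw {Γ : Type*} [Group Γ] [Fintype Γ] (G : Subgroup Γ) [Fintype G] (s : Γ)
    (hs : s ∈ Subgroup.normalizer (G : Set Γ)) (hcop : (orderOf s).Coprime (Nat.card G))
    (C : Subgroup Γ) (hC : C = G ⊓ Subgroup.centralizer ({s} : Set Γ)) [Fintype C]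
    (φ ψ : Γ → ℂ) (hφ : IsClassFunction Γ φ) (hψ : IsClassFunction Γ ψ) :
    classInner (fun c : C => φ ((c : Γ) * s)) (fun c : C => ψ ((c : Γ) * s)) =
      navg G (fun x => φ x * conj (ψ x)) s := by
  have h := sum_coset_eq G s hs hcop C hC (fun x => φ x * conj (ψ x))
    (fun x _ y => by simp only [hφ y x, hψ y x])
  have hG0 : (Nat.card G : ℂ) ≠ 0 := by exact_mod_cast Nat.card_pos.ne'
  have hC0 : (Nat.card C : ℂ) ≠ 0 := by exact_mod_cast Nat.card_pos.ne'
  unfold classInner navg
  field_simp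
  linear_combination (-1 : ℂ) * h

end Cfsg.Agent.Lib.Helper77
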