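import Mathlib
import Cfsg.Agent.Lib.Helper77.GlaubCore
import Cfsg.Agent.S0886

/-!
# Canonical extensions for a cyclic coprime quotient
-/

set_option autoImplicit false

namespace Cfsg.Agent.Lib.Helper77

open Subgroup Cfsg Cfsg.Agent.Lib.Helper20 Cfsg.Agent.Lib.Helper19 Cfsg.Agent.Lib.Helper79
open scoped ComplexConjugate

section

variable {Γ : Type*} [Group Γ]

theorem hom_ext_of_top {M : Type*} [Group M] (G : Subgroup Γ) (s : Γ)
    (htop : G ⊔ zpowers s = ⊤) (f f' : Γ →* M)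
    (hG : ∀ g ∈ G, f g = f' g) (hs : f s = f' s) : f = f' := by
  have h : (⊤ : Subgroup Γ) ≤ f.eqLocus f' := by
    rw [← htop, sup_le_iff]
    exact ⟨fun g hg => hG g hg, by rw [zpowers_le]; exact hs⟩
  ext x
  exact h (mem_top x)

theorem index_dvd_orderOf (G : Subgroup Γ) [G.Normal] (s : Γ)
    (htop : G ⊔ zpowers s = ⊤) : G.index ∣ orderOf s := by
  rw [← relIndex_top_right, ← htop, relIndex_sup_left, ← Nat.card_zpowers]
  exact relIndex_dvd_card _ _

variable [Finite Γ]

theorem detChar_s_eq_one_iff (G : Subgroup Γ) (s : Γ)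
    (hcop : (orderOf s).Coprime (Nat.card G)) (htop : G ⊔ zpowers s = ⊤) {χh : Γ → ℂ}
    (h : IsCharacter Γ χh) : (detOrder χh).Coprime (orderOf s) ↔ detChar χh s = 1 := by
  obtain ⟨f, hf⟩ := exists_detChar_hom h
  unfold detOrder
  rw [hf, orderOf_homFun]
  have e : homFun f s = 1 ↔ f s = 1 := by
    rw [homFun_apply]; exact Units.val_eq_one
  rw [e]
  constructor
  · intro hc
    have h1 : orderOf (f s) ∣ orderOf f := by
      apply orderOf_dvd_of_pow_eq_one
      rw [← MonoidHom.pow_apply, pow_orderOf_eq_one]; rfl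
    have h2 : orderOf (f s) ∣ orderOf s := orderOf_map_dvd f s
    have h3 : orderOf (f s) ∣ 1 := by
      rw [← Nat.coprime_iff_gcd_eq_one.1 hc]
      exact Nat.dvd_gcd h1 h2
    exact orderOf_eq_one_iff.1 (Nat.dvd_one.1 h3)
  · intro hs
    have h1 : f ^ (Nat.card G) = 1 := by
      apply hom_ext_of_top G s htop
      · intro g hg
        rw [MonoidHom.pow_apply, ← map_pow, pow_eq_one_of_mem_of_dvd G hg dvd_rfl]; simp
      · rw [MonoidHom.pow_apply, hs]; simp
    exact (Nat.Coprime.coprime_dvd_left (orderOf_dvd_of_pow_eq_one h1) hcop.symm)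

theorem canon_unique (G : Subgroup Γ) [G.Normal] (s : Γ)
    (hcop : (orderOf s).Coprime (Nat.card G)) (htop : G ⊔ zpowers s = ⊤) {χh χh' : Γ → ℂ}
    (h : IsIrrCharacter Γ χh) (h' : IsIrrCharacter Γ χh')
    (hr : IsIrrCharacter G (fun g : G => χh g)) (hres : ∀ g : G, χh' g = χh g)
    (hd : detChar χh s = 1) (hd' : detChar χh' s = 1) : χh' = χh := by
  obtain ⟨d, hd1, hd2, _⟩ := irr_degree_dvd hr
  obtain ⟨f, hf⟩ := exists_detChar_hom (isCharacter_of_isIrrCharacter h)
  obtain ⟨f', hf'⟩ := exists_detChar_hom (isCharacter_of_isIrrCharacter h')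
  have hcop' : Nat.Coprime G.index d :=
    Nat.Coprime.coprime_dvd_left (index_dvd_orderOf G s htop) (Nat.Coprime.coprime_dvd_right hd2 hcop)
  have r1 := detChar_restrict (isCharacter_of_isIrrCharacter h) G
  have r2 := detChar_restrict (isCharacter_of_isIrrCharacter h') G
  have hres' : (fun g : G => χh' g) = (fun g : G => χh g) := funext hres
  have hff : f' = f := by
    apply hom_ext_of_top G s htop
    · intro g hg
      have e1 := congrFun r1 ⟨g, hg⟩
      have e2 := congrFun r2 ⟨g, hg⟩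
      rw [hres', e1] at e2
      simp only [hf, hf', homFun_apply] at e2
      exact (Units.ext e2).symm
    · rw [hf, homFun_apply] at hd
      rw [hf', homFun_apply] at hd'
      exact Units.ext (by rw [hd, hd'])
  have key := Cfsg.Agent.S0862.result G (fun g : G => χh g) hr d hd1 hcop' ⟨χh, h, fun _ => rfl⟩
    (detChar χh) (by rw [hf]; exact isCharacter_homFun f) (fun n => (congrFun r1 n).symm)
  exact key.unique ⟨h', hres, by rw [hf', hf, hff]⟩ ⟨h, fun _ => rfl, rfl⟩

theorem canon_pow (G : Subgroup Γ) [G.Normal] (s : Γ)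
    (hcop : (orderOf s).Coprime (Nat.card G)) (htop : G ⊔ zpowers s = ⊤) {χh : Γ → ℂ}
    (h : IsIrrCharacter Γ χh) (hr : IsIrrCharacter G (fun g : G => χh g))
    (hd : detChar χh s = 1) (m : ℕ) (hm1 : m ≡ 1 [MOD Nat.card G])
    (hm2 : m.Coprime (orderOf s)) (x : Γ) : χh (x ^ m) = χh x := by
  have hmG : m.Coprime (Nat.card G) := by
    have := (Nat.ModEq.gcd_eq hm1)
    rw [Nat.coprime_iff_gcd_eq_one, this]; simp
  have hmΓ : m.Coprime (Nat.card Γ) := by
    rw [← G.card_mul_index]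
    exact Nat.Coprime.mul_right hmG
      (Nat.Coprime.coprime_dvd_right (index_dvd_orderOf G s htop) hm2)
  obtain ⟨τ, _, hτ⟩ := exists_galois (Nat.card Γ) m Nat.card_pos hmΓ
  have hτ' : ∀ y : Γ, τ (χh y) = χh (y ^ m) := fun y =>
    hτ Γ χh (isCharacter_of_isIrrCharacter h) y pow_card_eq_one'
  have hirr : IsIrrCharacter Γ (fun y => τ (χh y)) := IsIrrCharacter.ringEquiv_comp τ h
  have hres : ∀ g : G, (fun y => τ (χh y)) g = χh g := by
    intro g
    show τ (χh g) = χh g
    rw [hτ']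
    congr 1
    have : (g : Γ) ^ m = (g : Γ) ^ 1 := by
      rw [pow_eq_pow_iff_modEq]
      exact hm1.of_dvd (Subgroup.orderOf_dvd_natCard G g.2)
    simpa using this
  have hdet : detChar (fun y => τ (χh y)) s = 1 := by
    have := detChar_ringHom_comp (τ : ℂ →+* ℂ) (isCharacter_of_isIrrCharacter h)
    have e := congrFun this s
    simp only [RingEquiv.coe_toRingHom] at e
    rw [e, hd, map_one]
  have := canon_unique G s hcop htop h hirr hr hres hd hdet
  rw [← hτ']
  exact congrFun this x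

theorem canon_exists (G : Subgroup Γ) [hG : G.Normal] (s : Γ)
    (hcop : (orderOf s).Coprime (Nat.card G)) (htop : G ⊔ zpowers s = ⊤) {χ : G → ℂ}
    (hχ : IsIrrCharacter G χ) (hinv : InvUnder G s χ) :
    ∃ χh : Γ → ℂ, IsIrrCharacter Γ χh ∧ (∀ g : G, χh g = χ g) ∧ detChar χh s = 1 := by
  have hcyc : IsCyclic (Γ ⧸ G) := by
    refine ⟨⟨QuotientGroup.mk s, ?_⟩⟩
    intro x
    obtain ⟨y, rfl⟩ := QuotientGroup.mk_surjective x
    have hy : y ∈ ((G ⊔ zpowers s : Subgroup Γ) : Set Γ) := by rw [htop]; trivial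
    rw [normal_mul] at hy
    obtain ⟨g, hg, z, hz, rfl⟩ := Set.mem_mul.1 hy
    obtain ⟨k, rfl⟩ := mem_zpowers_iff.1 hz
    refine mem_zpowers_iff.2 ⟨k, ?_⟩
    rw [QuotientGroup.mk_mul, (QuotientGroup.eq_one_iff g).2 hg, one_mul, QuotientGroup.mk_zpow]
  have hall : (⊤ : Subgroup Γ) ≤ stabSub G χ := by
    rw [← htop, sup_le_iff]
    refine ⟨le_stabSub_self G (isClassFunction_of_isCharacter (isCharacter_of_isIrrCharacter hχ)),
      ?_⟩
    rw [zpowers_le]
    exact ⟨by rw [normalizer_eq_top]; trivial, hinv⟩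
  obtain ⟨ξ, hξ, hξr⟩ := Cfsg.Agent.S0886.result G hcyc χ hχ
    (fun g n => (hall (mem_top g)).2 n _ rfl)
  have hξc := isCharacter_of_isIrrCharacter hξ
  obtain ⟨f, hf⟩ := exists_detChar_hom hξc
  obtain ⟨d, hd1, hd2, _⟩ := irr_degree_dvd hχ
  have hc : Nat.Coprime (Nat.card G * d) (orderOf s) :=
    Nat.Coprime.mul_left hcop.symm (Nat.Coprime.coprime_dvd_left hd2 hcop.symm)
  obtain ⟨u, v, huv⟩ := Nat.isCoprime_iff_coprime.2 hc
  let k : ℤ := -(u * (Nat.card G : ℤ))
  let b : Γ →* ℂˣ := (zpowGroupHom k).comp f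
  have hb : ∀ x, b x = (f x) ^ k := fun x => rfl
  have hbG : ∀ g : G, b g = 1 := by
    intro g
    rw [hb]
    show f g ^ (-(u * (Nat.card G : ℤ))) = 1
    rw [zpow_neg, zpow_mul', zpow_natCast, ← map_pow, pow_eq_one_of_mem_of_dvd G g.2 dvd_rfl]
    simp
  refine ⟨homFun b * ξ, Cfsg.Agent.Lib.Helper82.isIrr_linear_mul (isCharacter_homFun b).1
    (isCharacter_homFun b).2 hξ, ?_, ?_⟩
  · intro g
    rw [Pi.mul_apply, homFun_apply, hbG g, hξr]
    simp
  · have hd' : ξ 1 = d := by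
      have := hξr 1
      rw [← hd1, ← this]; rfl
    rw [detChar_twist b hξc d hd', hf, Pi.mul_apply, homFun_apply, homFun_apply,
      ← Units.val_mul, MonoidHom.pow_apply, hb]
    have e : (f s ^ k) ^ d * f s = f s ^ (v * (orderOf s : ℤ)) := by
      rw [← zpow_natCast, ← zpow_mul, ← zpow_add_one]
      congr 1
      show -(u * (Nat.card G : ℤ)) * d + 1 = v * (orderOf s : ℤ)
      push_cast at huv
      linear_combination (-1 : ℤ) * huv
    rw [e, zpow_mul', zpow_natCast, ← map_pow, pow_orderOf_eq_one]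
    simp

end

end Cfsg.Agent.Lib.Helper77
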