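import Mathlib
import Cfsg.Agent.Lib.Helper77.GlaubCanon

/-!
# Glauberman correspondence for a cyclic operator group (Isaacs 13.6), core form
-/

set_option autoImplicit false
set_option linter.unusedSectionVars false

namespace Cfsg.Agent.Lib.Helper77

open Subgroup Cfsg Cfsg.Agent.Lib.Helper20 Cfsg.Agent.Lib.Helper19 Cfsg.Agent.Lib.Helper79
open scoped ComplexConjugate

section

variable {Γ : Type*} [Group Γ]

/-- the multiplication map `C × ⟨s⟩ → Γ` -/
noncomputable def csHom (C : Subgroup Γ) (s : Γ) (hCs : ∀ c ∈ C, c * s = s * c) :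
    C × zpowers s →* Γ :=
  MonoidHom.noncommCoprod C.subtype (zpowers s).subtype (by
    intro c t
    obtain ⟨k, hk⟩ := mem_zpowers_iff.1 t.2
    show Commute (c : Γ) (t : Γ)
    rw [← hk]
    exact Commute.zpow_right (hCs c c.2) k)

theorem csHom_apply (C : Subgroup Γ) (s : Γ) (hCs : ∀ c ∈ C, c * s = s * c)
    (a : C × zpowers s) : csHom C s hCs a = (a.1 : Γ) * (a.2 : Γ) := rfl

/-- multiplicity character on `⟨s⟩` -/
noncomputable def multChar (C : Subgroup Γ) [Fintype C] (s : Γ) (χh : Γ → ℂ) (β : C → ℂ) :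
    zpowers s → ℂ :=
  fun t => classInner (fun c : C => χh ((c : Γ) * (t : Γ))) β

theorem isCharacter_multChar [Finite Γ] (C : Subgroup Γ) [Fintype C] (s : Γ)
    (hCs : ∀ c ∈ C, c * s = s * c) {χh : Γ → ℂ} (h : IsCharacter Γ χh) {β : C → ℂ}
    (hβ : IsCharacter C β) : IsCharacter (zpowers s) (multChar C s χh β) := by
  have : Fintype (zpowers s) := Fintype.ofFinite _
  exact isCharacter_partialInner (isCharacter_comp_hom h (csHom C s hCs)) hβ

end

section

variable {Γ : Type*} [Group Γ] [Fintype Γ] (G : Subgroup Γ) [hGn : G.Normal] [Fintype G] (s : Γ)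
  (hcop : (orderOf s).Coprime (Nat.card G)) (htop : G ⊔ zpowers s = ⊤)
  (C : Subgroup Γ) (hC : C = G ⊓ Subgroup.centralizer ({s} : Set Γ)) [Fintype C]

omit [Fintype Γ] hGn [Fintype G] [Fintype C] in
include hC in
theorem C_le_G : C ≤ G := hC.le.trans inf_le_left

omit [Fintype Γ] hGn [Fintype G] [Fintype C] in
include hC in
theorem C_comm : ∀ c ∈ C, c * s = s * c := fun _ hc =>
  mem_centralizer_singleton_iff.1 (mem_inf.1 (hC.le hc)).2

include hcop htop hC in
theorem tw_pow {χh : Γ → ℂ} (h : IsIrrCharacter Γ χh) (hr : IsIrrCharacter G (fun g : G => χh g))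
    (hd : detChar χh s = 1) (k : ℕ) (hk : k.Coprime (orderOf s)) (c : Γ) (hc : c ∈ C) :
    χh (c * s ^ k) = χh (c * s) := by
  obtain ⟨m, hm1, hm2⟩ := Nat.chineseRemainder hcop k 1
  have hm3 : m.Coprime (orderOf s) := by
    rw [Nat.coprime_iff_gcd_eq_one, hm1.gcd_eq]; exact hk
  rw [← canon_pow G s hcop htop h hr hd m hm2 hm3 (c * s)]
  have hcomm : Commute c s := C_comm G s C hC c hc
  rw [hcomm.mul_pow]
  congr 2
  · have : c ^ m = c ^ 1 := by
      rw [pow_eq_pow_iff_modEq]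
      exact hm2.of_dvd (Subgroup.orderOf_dvd_natCard G (C_le_G G s C hC hc))
    simpa using this.symm
  · exact (pow_eq_pow_iff_modEq.2 hm1).symm

include hcop htop hC in
theorem tw_gen {χh : Γ → ℂ} (h : IsIrrCharacter Γ χh) (hr : IsIrrCharacter G (fun g : G => χh g))
    (hd : detChar χh s = 1) (s' : Γ) (hs' : zpowers s' = zpowers s) (c : Γ) (hc : c ∈ C) :
    χh (c * s') = χh (c * s) := by
  have h1 : s' ∈ zpowers s := hs' ▸ mem_zpowers s'
  obtain ⟨k, rfl⟩ := (mem_powers_iff_mem_zpowers (x := s) (y := s')).2 h1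
  apply tw_pow G s hcop htop C hC h hr hd k _ c hc
  have h2 : orderOf (s ^ k) = orderOf s := by
    rw [← Nat.card_zpowers, hs', Nat.card_zpowers]
  have h3 := orderOf_pow (n := k) s
  rw [h2] at h3
  have hpos : 0 < orderOf s := orderOf_pos s
  have h4 : (orderOf s).gcd k = 1 := (Nat.div_eq_self.1 h3.symm).resolve_left hpos.ne'
  exact (Nat.coprime_iff_gcd_eq_one.2 h4).symm

include hcop htop hC in
theorem tw_int {χh : Γ → ℂ} (h : IsIrrCharacter Γ χh) (hr : IsIrrCharacter G (fun g : G => χh g))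
    (hd : detChar χh s = 1) {β : C → ℂ} (hβ : IsCharacter C β) :
    ∃ n : ℤ, classInner (fun c : C => χh ((c : Γ) * s)) β = n := by
  have hA := isCharacter_multChar C s (C_comm G s C hC) (isCharacter_of_isIrrCharacter h) hβ
  have : NeZero (orderOf s) := ⟨(orderOf_pos s).ne'⟩
  have hs1 : (⟨s, mem_zpowers s⟩ : zpowers s) ^ (orderOf s) = 1 :=
    Subtype.ext (by simp [pow_orderOf_eq_one])
  obtain ⟨q, hq⟩ := IsCharacter.exists_rat_of_pow_eq hA (orderOf s) ⟨s, mem_zpowers s⟩ hs1 (by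
    intro k hk
    show classInner (fun c : C => χh ((c : Γ) * (s ^ k))) β =
      classInner (fun c : C => χh ((c : Γ) * s)) β
    congr 1
    funext c
    exact tw_pow G s hcop htop C hC h hr hd k hk c c.2)
  have hint := isCharacter_isIntegral hA ⟨s, mem_zpowers s⟩
  rw [hq] at hint
  obtain ⟨z, hz⟩ := Cfsg.Agent.Lib.Helper4.exists_int_of_isIntegral_rat hint
  refine ⟨z, ?_⟩
  have : classInner (fun c : C => χh ((c : Γ) * s)) β = (q : ℂ) := hq
  rw [this, hz]
  simp

include hC in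
theorem tw_isClassFunction {χh : Γ → ℂ} (h : IsClassFunction Γ χh) :
    IsClassFunction C (fun c : C => χh ((c : Γ) * s)) := by
  intro g x
  show χh (((x * g * x⁻¹ : C) : Γ) * s) = χh ((g : Γ) * s)
  rw [← h ((g : Γ) * s) x]
  congr 1
  have := C_comm G s C hC x x.2
  push_cast
  calc (x : Γ) * g * (x : Γ)⁻¹ * s = (x : Γ) * g * ((x : Γ)⁻¹ * (s * x)) * (x : Γ)⁻¹ := by group
    _ = (x : Γ) * (g * s) * (x : Γ)⁻¹ := by rw [← this]; group

include hcop htop hC in
theorem tw_eq {χh : Γ → ℂ} (h : IsIrrCharacter Γ χh) (hr : IsIrrCharacter G (fun g : G => χh g))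
    (hd : detChar χh s = 1) :
    ∃ β : IrrCharacter C, ∃ ε : ℤ, (ε = 1 ∨ ε = -1) ∧
      ∀ c : C, χh ((c : Γ) * s) = (ε : ℂ) * (β : C → ℂ) c := by
  have hcl := isClassFunction_of_isCharacter (isCharacter_of_isIrrCharacter h)
  have hs : s ∈ Subgroup.normalizer (G : Set Γ) := by rw [normalizer_eq_top]; trivial
  have hgen : IsGeneralizedCharacter C (fun c : C => χh ((c : Γ) * s)) :=
    genChar_of_classInner_int (tw_isClassFunction G s C hC hcl)
      (fun β hβ => tw_int G s hcop htop C hC h hr hd (isCharacter_of_isIrrCharacter hβ))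
  have hnorm : classInner (fun c : C => χh ((c : Γ) * s)) (fun c : C => χh ((c : Γ) * s)) = 1 := by
    rw [classInner_tw G s hs hcop C hC χh χh hcl hcl, navg_ext_self G h hr]
  rcases Cfsg.Agent.Lib.Helper32.genChar_norm_one hgen hnorm with h1 | h1
  · exact ⟨⟨_, h1⟩, 1, Or.inl rfl, fun c => by simp⟩
  · exact ⟨⟨_, h1⟩, -1, Or.inr rfl, fun c => by simp⟩

include hC in
theorem tw_constituent {χh : Γ → ℂ} (h : IsCharacter Γ χh)
    {β : C → ℂ} (hβ : IsIrrCharacter C β) {ε : ℂ} (hε : ε ≠ 0)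
    (hval : ∀ c : C, χh ((c : Γ) * s) = ε * β c) :
    classInner (fun c : C => χh (c : Γ)) β ≠ 0 := by
  have hA := isCharacter_multChar C s (C_comm G s C hC) h (isCharacter_of_isIrrCharacter hβ)
  intro h0
  have h1 : multChar C s χh β 1 = 0 := by
    show classInner (fun c : C => χh ((c : Γ) * ((1 : zpowers s) : Γ))) β = 0
    simpa using h0
  have h2 := IsCharacter.eq_zero_of_one_eq_zero hA h1
  have h3 : multChar C s χh β ⟨s, mem_zpowers s⟩ = ε := by
    show classInner (fun c : C => χh ((c : Γ) * s)) β = ε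
    have : (fun c : C => χh ((c : Γ) * s)) = ε • β := funext fun c => by simp [hval]
    rw [this, classInner_smul_left, classInner_irr_self hβ, mul_one]
  rw [h2] at h3
  exact hε h3.symm

include hcop hC in
theorem tw_orth {χh χh' : Γ → ℂ} (h : IsIrrCharacter Γ χh) (h' : IsIrrCharacter Γ χh')
    (hr : IsIrrCharacter G (fun g : G => χh g)) (hr' : IsIrrCharacter G (fun g : G => χh' g))
    (hne : (fun g : G => χh g) ≠ (fun g : G => χh' g)) :
    classInner (fun c : C => χh ((c : Γ) * s)) (fun c : C => χh' ((c : Γ) * s)) = 0 := by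
  have hcl := isClassFunction_of_isCharacter (isCharacter_of_isIrrCharacter h)
  have hcl' := isClassFunction_of_isCharacter (isCharacter_of_isIrrCharacter h')
  have hs : s ∈ Subgroup.normalizer (G : Set Γ) := by rw [normalizer_eq_top]; trivial
  rw [classInner_tw G s hs hcop C hC χh χh' hcl hcl', navg_ext_ne G h h' hr hr' hne]

include hcop hC in
/-- injectivity -/
theorem tw_inj {χh χh' : Γ → ℂ} (h : IsIrrCharacter Γ χh) (h' : IsIrrCharacter Γ χh')
    (hr : IsIrrCharacter G (fun g : G => χh g)) (hr' : IsIrrCharacter G (fun g : G => χh' g))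
    {β : C → ℂ} (hβ : IsIrrCharacter C β) {ε ε' : ℂ} (hε : ε ≠ 0) (hε' : ε' ≠ 0)
    (hval : ∀ c : C, χh ((c : Γ) * s) = ε * β c) (hval' : ∀ c : C, χh' ((c : Γ) * s) = ε' * β c) :
    (fun g : G => χh g) = (fun g : G => χh' g) := by
  by_contra hne
  have h0 := tw_orth G s hcop C hC h h' hr hr' hne
  have e1 : (fun c : C => χh ((c : Γ) * s)) = ε • β := funext fun c => by simp [hval]
  have e2 : (fun c : C => χh' ((c : Γ) * s)) = ε' • β := funext fun c => by simp [hval']
  rw [e1, e2, classInner_smul_left, classInner_smul_right, classInner_irr_self hβ, mul_one] at h0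
  rcases mul_eq_zero.1 h0 with h1 | h1
  · exact hε h1
  · exact hε' ((map_eq_zero _).1 h1)

include hcop htop hC in
/-- surjectivity -/
theorem tw_surj (β : IrrCharacter C) :
    ∃ χh : Γ → ℂ, IsIrrCharacter Γ χh ∧ IsIrrCharacter G (fun g : G => χh g) ∧
      detChar χh s = 1 ∧ ∃ ε : ℤ, (ε = 1 ∨ ε = -1) ∧
      ∀ c : C, χh ((c : Γ) * s) = (ε : ℂ) * (β : C → ℂ) c := by
  classical
  have hs : s ∈ Subgroup.normalizer (G : Set Γ) := by rw [normalizer_eq_top]; trivial
  have hex : ∀ χ : {χ : IrrCharacter G // InvUnder G s (χ : G → ℂ)},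
      ∃ χh : Γ → ℂ, IsIrrCharacter Γ χh ∧ (∀ g : G, χh g = (χ.1 : G → ℂ) g) ∧ detChar χh s = 1 :=
    fun χ => canon_exists G s hcop htop χ.1.2 χ.2
  choose X hX1 hX2 hX3 using hex
  have hXr : ∀ χ, IsIrrCharacter G (fun g : G => X χ g) := fun χ => by
    have : (fun g : G => X χ g) = (χ.1 : G → ℂ) := funext (hX2 χ)
    rw [this]; exact χ.1.2
  have hex2 := fun χ => tw_eq G s hcop htop C hC (hX1 χ) (hXr χ) (hX3 χ)
  choose B E hE hB using hex2
  have hE0 : ∀ χ, ((E χ : ℤ) : ℂ) ≠ 0 := fun χ => by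
    rcases hE χ with h | h <;> rw [h] <;> simp
  have hinj : Function.Injective B := by
    intro χ χ' hBB
    have := tw_inj G s hcop C hC (hX1 χ) (hX1 χ') (hXr χ) (hXr χ') (B χ).2 (hE0 χ) (hE0 χ')
      (hB χ) (by rw [hBB]; exact hB χ')
    apply Subtype.ext
    apply Subtype.ext
    rw [← funext (hX2 χ), ← funext (hX2 χ')]
    exact this
  have := finite_irrCharacter (G := C)
  have hbij := hinj.bijective_of_nat_card_le (by
    rw [card_inv_irr_eq G s hs hcop C hC, card_irrCharacter])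
  obtain ⟨χ, rfl⟩ := hbij.2 β
  exact ⟨X χ, hX1 χ, hXr χ, hX3 χ, E χ, hE χ, hB χ⟩

end

end Cfsg.Agent.Lib.Helper77
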