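import Mathlib
import Cfsg.Agent.Lib.Helper77.GlaubCyc

/-!
# Conversions between the statement format (`S` a subgroup normalising `G`) and the core format
-/

set_option autoImplicit false

namespace Cfsg.Agent.Lib.Helper77

open Subgroup Cfsg

variable {Γ : Type*} [Group Γ]

theorem exists_zpowers_eq (S : Subgroup Γ) (h : IsCyclic S) : ∃ s : Γ, zpowers s = S := by
  obtain ⟨g, hg⟩ := h.exists_generator
  refine ⟨g, ?_⟩
  have h1 : zpowers g = ⊤ := (eq_top_iff' _).2 hg
  have h2 := congrArg (Subgroup.map S.subtype) h1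
  rw [MonoidHom.map_zpowers, ← MonoidHom.range_eq_map, range_subtype] at h2
  exact h2

theorem le_normalizer_of_norm (G S : Subgroup Γ) (hnorm : ∀ s ∈ S, ∀ g ∈ G, s * g * s⁻¹ ∈ G) :
    S ≤ Subgroup.normalizer (G : Set Γ) := by
  intro s hs
  rw [mem_normalizer_iff]
  intro g
  refine ⟨hnorm s hs g, fun h => ?_⟩
  have := hnorm s⁻¹ (S.inv_mem hs) _ h
  simpa [mul_assoc] using this

theorem normal_of_norm_top (G S : Subgroup Γ) (hnorm : ∀ s ∈ S, ∀ g ∈ G, s * g * s⁻¹ ∈ G)
    (htop : G ⊔ S = ⊤) : G.Normal := by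
  rw [← normalizer_eq_top_iff, eq_top_iff, ← htop, sup_le_iff]
  exact ⟨le_normalizer, le_normalizer_of_norm G S hnorm⟩

theorem centralizer_zpowers_eq (s : Γ) :
    Subgroup.centralizer ((zpowers s : Subgroup Γ) : Set Γ) = Subgroup.centralizer ({s} : Set Γ) := by
  ext x
  rw [mem_centralizer_singleton_iff, mem_centralizer_iff]
  constructor
  · intro h
    exact (h s (mem_zpowers s)).symm
  · intro h t ht
    obtain ⟨k, rfl⟩ := mem_zpowers_iff.1 ht
    have : Commute x s := h
    exact (this.zpow_right k).symm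

theorem invUnder_of_mem_zpowers (G : Subgroup Γ) (s : Γ) (hs : s ∈ Subgroup.normalizer (G : Set Γ))
    {χ : G → ℂ} (h : InvUnder G s χ) {t : Γ} (ht : t ∈ zpowers s) : InvUnder G t χ := by
  have : zpowers s ≤ stabSub G χ := by
    rw [zpowers_le]; exact ⟨hs, h⟩
  exact (this ht).2

end Cfsg.Agent.Lib.Helper77
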