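import Mathlib
import Cfsg.Agent.Lib.Helper77.GlaubSetup
import Cfsg.Agent.Lib.Helper77.CharCongr

/-!
# Glauberman correspondence for `p`-groups of operators: definitions, cyclic case (core form)
-/

set_option autoImplicit false

namespace Cfsg.Agent.Lib.Helper77

open Subgroup Cfsg Cfsg.Agent.Lib.Helper20 Cfsg.Agent.Lib.Helper19 Cfsg.Agent.Lib.Helper79
open scoped ComplexConjugate

section Defs

variable {Γ : Type*} [Group Γ]

/-- the multiplicities of `χ|_C` are `≡ ε` at `β` and `≡ 0` elsewhere, modulo `p`. -/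
def MultData (p : ℕ) {G C : Subgroup Γ} [Fintype C] (hCG : C ≤ G) (χ : G → ℂ)
    (β : IrrCharacter C) (ε : ℤ) : Prop :=
  ∀ γ : IrrCharacter C, ∃ m : ℕ, classInner (fun c : C => χ ⟨c, hCG c.2⟩) (γ : C → ℂ) = m ∧
    (γ = β → (m : ZMod p) = (ε : ZMod p)) ∧ (γ ≠ β → (m : ZMod p) = 0)

/-- `β` occurs in `χ|_C` with multiplicity prime to `p`. -/
def PCorr (p : ℕ) {G C : Subgroup Γ} [Fintype C] (hCG : C ≤ G) (χ : G → ℂ) (β : C → ℂ) : Prop :=
  ∃ m : ℕ, classInner (fun c : C => χ ⟨c, hCG c.2⟩) β = m ∧ ¬ p ∣ m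

theorem sign_ne_zero_zmod (p : ℕ) [hp : Fact p.Prime] {ε : ℤ} (hε : ε = 1 ∨ ε = -1) :
    (ε : ZMod p) ≠ 0 := by
  rcases hε with rfl | rfl <;> simp

theorem MultData.pcorr_iff {p : ℕ} [hp : Fact p.Prime] {G C : Subgroup Γ} [Fintype C]
    {hCG : C ≤ G} {χ : G → ℂ} {β : IrrCharacter C} {ε : ℤ} (h : MultData p hCG χ β ε)
    (hε : ε = 1 ∨ ε = -1) (γ : IrrCharacter C) : PCorr p hCG χ γ ↔ γ = β := by
  obtain ⟨m, hm, h1, h2⟩ := h γ
  constructor
  · rintro ⟨m', hm', hp'⟩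
    by_contra hne
    have : m' = m := by
      have : (m' : ℂ) = (m : ℂ) := by rw [← hm, ← hm']
      exact_mod_cast this
    subst this
    exact hp' ((ZMod.natCast_eq_zero_iff _ _).1 (h2 hne))
  · intro he
    refine ⟨m, hm, fun hd => ?_⟩
    have := h1 he
    rw [(ZMod.natCast_eq_zero_iff _ _).2 hd] at this
    exact sign_ne_zero_zmod p hε this.symm

/-- The Glauberman correspondence statement for `S` acting on `G` with "fixed points" `C`. -/
structure Glaub (p : ℕ) (G S C : Subgroup Γ) [Fintype C] (hCG : C ≤ G) : Prop where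
  data : ∀ χ : IrrCharacter G, (∀ s ∈ S, InvUnder G s (χ : G → ℂ)) →
    ∃ β : IrrCharacter C, ∃ ε : ℤ, (ε = 1 ∨ ε = -1) ∧ MultData p hCG (χ : G → ℂ) β ε
  inj : ∀ χ χ' : IrrCharacter G, (∀ s ∈ S, InvUnder G s (χ : G → ℂ)) →
    (∀ s ∈ S, InvUnder G s (χ' : G → ℂ)) → ∀ β : IrrCharacter C,
    PCorr p hCG (χ : G → ℂ) β → PCorr p hCG (χ' : G → ℂ) β → χ = χ'
  surj : ∀ β : IrrCharacter C, ∃ χ : IrrCharacter G, (∀ s ∈ S, InvUnder G s (χ : G → ℂ)) ∧
    PCorr p hCG (χ : G → ℂ) β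

end Defs

section Core

variable {Γ : Type*} [Group Γ] [Fintype Γ] (p a : ℕ) [hp : Fact p.Prime] (G : Subgroup Γ)
  [hGn : G.Normal] [Fintype G] (s : Γ)
  (hcop : (orderOf s).Coprime (Nat.card G)) (htop : G ⊔ zpowers s = ⊤) (hsp : s ^ (p ^ a) = 1)
  (C : Subgroup Γ) (hC : C = G ⊓ Subgroup.centralizer ({s} : Set Γ)) [Fintype C] (hCG : C ≤ G)

include hC hsp in
theorem multData_core {χh : Γ → ℂ} (h : IsCharacter Γ χh) (β : IrrCharacter C) (ε : ℤ)
    (hval : ∀ c : C, χh ((c : Γ) * s) = (ε : ℂ) * (β : C → ℂ) c) :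
    MultData p hCG (fun g : G => χh g) β ε := by
  classical
  intro γ
  have hA := isCharacter_multChar C s (C_comm G s C hC) h (isCharacter_of_isIrrCharacter γ.2)
  obtain ⟨m, hm⟩ := isCharacter_apply_one hA
  have hm' : classInner (fun c : C => χh (c : Γ)) (γ : C → ℂ) = m := by
    rw [← hm]
    show _ = classInner (fun c : C => χh ((c : Γ) * ((1 : zpowers s) : Γ))) (γ : C → ℂ)
    simp
  have hs1 : (⟨s, mem_zpowers s⟩ : zpowers s) ^ (p ^ a) = 1 := Subtype.ext (by simpa using hsp)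
  have hAs : multChar C s χh γ ⟨s, mem_zpowers s⟩ = ((if β = γ then ε else 0 : ℤ) : ℂ) := by
    show classInner (fun c : C => χh ((c : Γ) * s)) (γ : C → ℂ) = _
    have : (fun c : C => χh ((c : Γ) * s)) = (ε : ℂ) • (β : C → ℂ) := funext fun c => by simp [hval]
    rw [this, classInner_smul_left, classInner_irr β.2 γ.2]
    by_cases hbg : β = γ
    · simp [hbg]
    · have : (β : C → ℂ) ≠ (γ : C → ℂ) := fun h => hbg (Subtype.ext h)
      simp [hbg, this]
  have key := IsCharacter.int_value_modEq hA p a hp.out _ hs1 _ hAs m hm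
  have key' := (ZMod.intCast_eq_intCast_iff _ _ p).2 key
  refine ⟨m, hm', ?_, ?_⟩
  · intro he
    rw [if_pos he.symm] at key'
    rw [key']; simp
  · intro hne
    rw [if_neg (fun h => hne h.symm)] at key'
    have : ((m : ℤ) : ZMod p) = 0 := by rw [← key']; simp
    simpa using this

include hcop htop hsp hC in
theorem glaub_core : Glaub p G (zpowers s) C hCG := by
  have hsn : s ∈ Subgroup.normalizer (G : Set Γ) := by rw [normalizer_eq_top]; trivial
  have hne : ∀ ε : ℤ, (ε = 1 ∨ ε = -1) → (ε : ℂ) ≠ 0 := by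
    rintro ε (rfl | rfl) <;> simp
  have main : ∀ χ : IrrCharacter G, (∀ t ∈ zpowers s, InvUnder G t (χ : G → ℂ)) →
      ∃ χh : Γ → ℂ, IsIrrCharacter Γ χh ∧ (fun g : G => χh g) = (χ : G → ℂ) ∧
        ∃ β : IrrCharacter C, ∃ ε : ℤ, (ε = 1 ∨ ε = -1) ∧
        (∀ c : C, χh ((c : Γ) * s) = (ε : ℂ) * (β : C → ℂ) c) ∧
        MultData p hCG (χ : G → ℂ) β ε := by
    intro χ hinv
    obtain ⟨χh, h1, h2, h3⟩ := canon_exists G s hcop htop χ.2 (hinv s (mem_zpowers s))
    have hr : (fun g : G => χh g) = (χ : G → ℂ) := funext h2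
    obtain ⟨β, ε, hε, hval⟩ := tw_eq G s hcop htop C hC h1 (by rw [hr]; exact χ.2) h3
    refine ⟨χh, h1, hr, β, ε, hε, hval, ?_⟩
    rw [← hr]
    exact multData_core p a G s hsp C hC hCG (isCharacter_of_isIrrCharacter h1) β ε hval
  refine ⟨?_, ?_, ?_⟩
  · intro χ hinv
    obtain ⟨_, _, _, β, ε, hε, _, hM⟩ := main χ hinv
    exact ⟨β, ε, hε, hM⟩
  · intro χ χ' hinv hinv' β hc hc'
    obtain ⟨χh, h1, hr, β₁, ε, hε, hval, hM⟩ := main χ hinv
    obtain ⟨χh', h1', hr', β₂, ε', hε', hval', hM'⟩ := main χ' hinv'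
    have e1 := (hM.pcorr_iff hε β).1 hc
    have e2 := (hM'.pcorr_iff hε' β).1 hc'
    subst e1
    subst e2
    have := tw_inj G s hcop C hC h1 h1' (by rw [hr]; exact χ.2) (by rw [hr']; exact χ'.2) β.2
      (hne ε hε) (hne ε' hε') hval hval'
    rw [hr, hr'] at this
    exact Subtype.ext this
  · intro β
    obtain ⟨χh, h1, h2, _, ε, hε, hval⟩ := tw_surj G s hcop htop C hC β
    refine ⟨⟨_, h2⟩, ?_, ?_⟩
    · intro t _ g g' hg
      show χh g' = χh g
      rw [hg]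
      exact isClassFunction_of_isCharacter (isCharacter_of_isIrrCharacter h1) g t
    · exact ((multData_core p a G s hsp C hC hCG (isCharacter_of_isIrrCharacter h1) β ε
        hval).pcorr_iff hε β).2 rfl

end Core

end Cfsg.Agent.Lib.Helper77
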