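import Mathlib
import Cfsg.Agent.Lib.Helper77.GlaubP

/-!
# Transport of the Glauberman statement from the subgroup `G ⊔ S` to the ambient group;
cyclic case in ambient form.
-/

set_option autoImplicit false
set_option linter.unusedSectionVars false

namespace Cfsg.Agent.Lib.Helper77

open Subgroup Cfsg Cfsg.Agent.Lib.Helper20 Cfsg.Agent.Lib.Helper5

/-- irreducible characters transported along an isomorphism -/
noncomputable def irrEquiv {M N : Type*} [Group M] [Group N] [Finite M] [Finite N] (e : M ≃* N) :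
    IrrCharacter N ≃ IrrCharacter M where
  toFun χ := ⟨(χ : N → ℂ) ∘ e, isIrrCharacter_comp_equiv e χ.2⟩
  invFun χ := ⟨(χ : M → ℂ) ∘ e.symm, isIrrCharacter_comp_equiv e.symm χ.2⟩
  left_inv χ := by
    apply Subtype.ext
    funext x
    simp
  right_inv χ := by
    apply Subtype.ext
    funext x
    simp

theorem irrEquiv_coe {M N : Type*} [Group M] [Group N] [Finite M] [Finite N] (e : M ≃* N)
    (χ : IrrCharacter N) : ((irrEquiv e χ : IrrCharacter M) : M → ℂ) = (χ : N → ℂ) ∘ e := rfl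

section

variable {Γ : Type*} [Group Γ] [Finite Γ] (p : ℕ) (Γ' G S C : Subgroup Γ) [Fintype C]
  [Fintype (C.subgroupOf Γ')] (hCG : C ≤ G) (hG : G ≤ Γ') (hS : S ≤ Γ')

theorem subgroupOf_mono' {A B : Subgroup Γ} (h : A ≤ B) : A.subgroupOf Γ' ≤ B.subgroupOf Γ' :=
  fun _ hx => h hx

include hS in
theorem inv_transport (χ : G → ℂ) : (∀ s ∈ S, InvUnder G s χ) ↔
    (∀ s' ∈ S.subgroupOf Γ', InvUnder (G.subgroupOf Γ') s' (χ ∘ subgroupOfEquivOfLe hG)) := by
  constructor
  · intro h s' hs' g g' hg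
    exact h (s' : Γ) hs' (subgroupOfEquivOfLe hG g) (subgroupOfEquivOfLe hG g') (by
      rw [subgroupOfEquivOfLe_apply_coe, subgroupOfEquivOfLe_apply_coe, hg]; rfl)
  · intro h s hs g g' hg
    have := h ⟨s, hS hs⟩ hs ((subgroupOfEquivOfLe hG).symm g) ((subgroupOfEquivOfLe hG).symm g') (by
      apply Subtype.ext
      show (g' : Γ) = s * g * s⁻¹
      exact hg)
    simpa using this

theorem inner_transport (χ : G → ℂ) (γ : C → ℂ) :
    classInner (fun c : C.subgroupOf Γ' => (χ ∘ subgroupOfEquivOfLe hG)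
      ⟨c, subgroupOf_mono' Γ' hCG c.2⟩) (γ ∘ subgroupOfEquivOfLe (hCG.trans hG)) =
    classInner (fun c : C => χ ⟨c, hCG c.2⟩) γ := by
  rw [← classInner_comp_equiv (subgroupOfEquivOfLe (hCG.trans hG))]
  rfl

theorem pcorr_transport (χ : G → ℂ) (γ : C → ℂ) :
    PCorr p (subgroupOf_mono' Γ' hCG) (χ ∘ subgroupOfEquivOfLe hG)
      (γ ∘ subgroupOfEquivOfLe (hCG.trans hG)) ↔ PCorr p hCG χ γ := by
  unfold PCorr
  rw [inner_transport Γ' G C hCG hG]

include hG hS in
theorem Glaub.of_subgroupOf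
    (h : Glaub p (G.subgroupOf Γ') (S.subgroupOf Γ') (C.subgroupOf Γ') (subgroupOf_mono' Γ' hCG)) :
    Glaub p G S C hCG := by
  let eG := subgroupOfEquivOfLe hG
  let eC := subgroupOfEquivOfLe (hCG.trans hG)
  refine ⟨?_, ?_, ?_⟩
  · intro χ hinv
    obtain ⟨β', ε, hε, hM⟩ := h.data (irrEquiv eG χ) ((inv_transport Γ' G S hG hS _).1 hinv)
    refine ⟨(irrEquiv eC).symm β', ε, hε, ?_⟩
    intro γ
    obtain ⟨m, hm, h1, h2⟩ := hM (irrEquiv eC γ)
    refine ⟨m, ?_, ?_, ?_⟩
    · rw [← hm]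
      exact (inner_transport Γ' G C hCG hG _ _).symm
    · intro he
      exact h1 (by rw [he]; simp)
    · intro hne
      exact h2 (fun he => hne (by rw [← he]; simp))
  · intro χ χ' hinv hinv' β hc hc'
    have := h.inj (irrEquiv eG χ) (irrEquiv eG χ') ((inv_transport Γ' G S hG hS _).1 hinv)
      ((inv_transport Γ' G S hG hS _).1 hinv') (irrEquiv eC β)
      ((pcorr_transport p Γ' G C hCG hG _ _).2 hc) ((pcorr_transport p Γ' G C hCG hG _ _).2 hc')
    exact (irrEquiv eG).injective this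
  · intro β
    obtain ⟨χ', hinv', hc'⟩ := h.surj (irrEquiv eC β)
    obtain ⟨χ, rfl⟩ := (irrEquiv eG).surjective χ'
    exact ⟨χ, (inv_transport Γ' G S hG hS _).2 hinv', (pcorr_transport p Γ' G C hCG hG _ _).1 hc'⟩

end

theorem glaub_cyc {Γ : Type*} [Group Γ] [Finite Γ] (p a : ℕ) [hp : Fact p.Prime] (G : Subgroup Γ)
    (s : Γ) (hs : s ∈ Subgroup.normalizer (G : Set Γ)) (hcop : (orderOf s).Coprime (Nat.card G))
    (hsp : s ^ (p ^ a) = 1) (C : Subgroup Γ)
    (hC : C = G ⊓ Subgroup.centralizer ({s} : Set Γ)) [Fintype C] (hCG : C ≤ G) :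
    Glaub p G (zpowers s) C hCG := by
  classical
  set Γ' : Subgroup Γ := G ⊔ zpowers s with hΓ'
  have hG : G ≤ Γ' := le_sup_left
  have hS : zpowers s ≤ Γ' := le_sup_right
  have : Fintype Γ' := Fintype.ofFinite _
  have : Fintype (G.subgroupOf Γ') := Fintype.ofFinite _
  have : Fintype (C.subgroupOf Γ') := Fintype.ofFinite _
  apply Glaub.of_subgroupOf p Γ' G (zpowers s) C hCG hG hS
  have hsΓ : s ∈ Γ' := hS (mem_zpowers s)
  have hz : (zpowers s).subgroupOf Γ' = zpowers (⟨s, hsΓ⟩ : Γ') := by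
    ext x
    rw [mem_subgroupOf, mem_zpowers_iff, mem_zpowers_iff]
    constructor
    · rintro ⟨k, hk⟩
      exact ⟨k, Subtype.ext (by simpa using hk)⟩
    · rintro ⟨k, hk⟩
      exact ⟨k, by rw [← hk]; simp⟩
  rw [hz]
  have hnorm : (G.subgroupOf Γ').Normal := by
    have h1 : Γ' ≤ Subgroup.normalizer (G : Set Γ) :=
      sup_le le_normalizer (by rw [zpowers_le]; exact hs)
    exact (normal_subgroupOf_iff_le_normalizer hG).2 h1
  have hord : orderOf (⟨s, hsΓ⟩ : Γ') = orderOf s := by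
    rw [← Subgroup.orderOf_coe]
  have hcard : Nat.card (G.subgroupOf Γ') = Nat.card G :=
    Nat.card_congr (subgroupOfEquivOfLe hG).toEquiv
  apply glaub_core p a (G.subgroupOf Γ') (⟨s, hsΓ⟩ : Γ')
  · rw [hord, hcard]; exact hcop
  · rw [← hz, ← subgroupOf_sup hG hS]
    exact subgroupOf_self _
  · exact Subtype.ext (by simpa using hsp)
  · ext x
    rw [mem_subgroupOf, hC, mem_inf, mem_inf, mem_subgroupOf, mem_centralizer_singleton_iff,
      mem_centralizer_singleton_iff, Subtype.ext_iff]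
    rfl

end Cfsg.Agent.Lib.Helper77
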