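import Mathlib
import Cfsg.Agent.Lib.Helper77.GlaubTransport
import Cfsg.Agent.Lib.Helper3.PGroup

/-!
# Glauberman correspondence for `p`-groups of operators: composition and induction
-/

set_option autoImplicit false
set_option linter.unusedSectionVars false

namespace Cfsg.Agent.Lib.Helper77

open Subgroup Cfsg Cfsg.Agent.Lib.Helper20 Cfsg.Agent.Lib.Helper5

variable {Γ : Type*} [Group Γ] [Finite Γ]

theorem isCharacter_res {G C : Subgroup Γ} (hCG : C ≤ G) {χ : G → ℂ} (hχ : IsCharacter G χ) :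
    IsCharacter C (fun c : C => χ ⟨c, hCG c.2⟩) :=
  isCharacter_comp_hom hχ (Subgroup.inclusion hCG)

theorem MultData.comp {p : ℕ} {G B C : Subgroup Γ} [Fintype B] [Fintype C]
    (hBG : B ≤ G) (hCB : C ≤ B) {χ : G → ℂ} (hχ : IsCharacter G χ) {η : IrrCharacter B}
    {β : IrrCharacter C} {ε₁ ε₂ : ℤ} (h1 : MultData p hBG χ η ε₁)
    (h2 : MultData p hCB (η : B → ℂ) β ε₂) : MultData p (hCB.trans hBG) χ β (ε₁ * ε₂) := by
  classical
  have := finite_irrCharacter (G := B)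
  have := Fintype.ofFinite (IrrCharacter B)
  choose a ha ha1 ha2 using h1
  intro γ
  have hb : ∀ η' : IrrCharacter B, ∃ b : ℕ,
      classInner (fun c : C => (η' : B → ℂ) ⟨c, hCB c.2⟩) (γ : C → ℂ) = b := fun η' =>
    isCharacter_classInner_nat (isCharacter_res hCB (isCharacter_of_isIrrCharacter η'.2)) γ.2
  choose b hb using hb
  have hexp := eq_sum_classInner_smul
    (isClassFunction_of_isCharacter (isCharacter_res hBG hχ))
  have hres : (fun c : C => χ ⟨c, (hCB.trans hBG) c.2⟩) =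
      ∑ η' : IrrCharacter B, (a η' : ℂ) • (fun c : C => (η' : B → ℂ) ⟨c, hCB c.2⟩) := by
    funext c
    have := congrFun hexp ⟨c, hCB c.2⟩
    simp only [ha] at this
    rw [Finset.sum_apply] at this ⊢
    exact this
  refine ⟨∑ η' : IrrCharacter B, a η' * b η', ?_, ?_, ?_⟩
  · rw [hres, classInner_sum_left]
    push_cast
    refine Finset.sum_congr rfl fun η' _ => ?_
    rw [classInner_smul_left, hb]
  all_goals
    have hsum : ((∑ η' : IrrCharacter B, a η' * b η' : ℕ) : ZMod p) = (ε₁ : ZMod p) * (b η : ZMod p) := by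
      push_cast
      rw [Finset.sum_eq_single η]
      · rw [ha1 η rfl]
      · intro η' _ hne
        rw [ha2 η' hne, zero_mul]
      · intro h; exact absurd (Finset.mem_univ _) h
    obtain ⟨m₂, hm₂, h21, h22⟩ := h2 γ
    have hbm : b η = m₂ := by
      have : (b η : ℂ) = (m₂ : ℂ) := by rw [← hb, ← hm₂]
      exact_mod_cast this
    intro hγ
    rw [hsum, hbm]
  · rw [h21 hγ]; push_cast; rfl
  · rw [h22 hγ, mul_zero]

theorem res_cj {G B : Subgroup Γ} (hBG : B ≤ G) (s : Γ)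
    (hsG : s ∈ Subgroup.normalizer (G : Set Γ)) (hsB : s ∈ Subgroup.normalizer (B : Set Γ))
    (χ : G → ℂ) : (fun b : B => (χ ∘ cjAut G s hsG) ⟨b, hBG b.2⟩) =
      (fun b : B => χ ⟨b, hBG b.2⟩) ∘ cjAut B s hsB := rfl

theorem inner_cj {G B : Subgroup Γ} [Fintype B] (hBG : B ≤ G) (s : Γ)
    (hsG : s ∈ Subgroup.normalizer (G : Set Γ)) (hsB : s ∈ Subgroup.normalizer (B : Set Γ))
    (χ : G → ℂ) (η : B → ℂ) :
    classInner (fun b : B => (χ ∘ cjAut G s hsG) ⟨b, hBG b.2⟩) (η ∘ cjAut B s hsB) =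
      classInner (fun b : B => χ ⟨b, hBG b.2⟩) η := by
  rw [res_cj hBG s hsG hsB, classInner_comp_equiv]

theorem comp_cjAut_eq_iff {G : Subgroup Γ} (s : Γ) (hsG : s ∈ Subgroup.normalizer (G : Set Γ))
    (χ : G → ℂ) : χ ∘ cjAut G s hsG = χ ↔ InvUnder G s χ := by
  rw [invUnder_iff G s hsG]
  exact funext_iff

theorem Glaub.comp {p : ℕ} [hp : Fact p.Prime] {G T B C S : Subgroup Γ} (s : Γ) [Fintype B]
    [Fintype C] (hBG : B ≤ G) (hCB : C ≤ B)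
    (hsG : s ∈ Subgroup.normalizer (G : Set Γ)) (hsB : s ∈ Subgroup.normalizer (B : Set Γ))
    (hsT : ∀ t ∈ T, s * t * s⁻¹ ∈ T) (hTG : T ≤ Subgroup.normalizer (G : Set Γ))
    (hS : S = T ⊔ zpowers s)
    (h1 : Glaub p G T B hBG) (h2 : Glaub p B (zpowers s) C hCB) :
    Glaub p G S C (hCB.trans hBG) := by
  have hTS : T ≤ S := hS ▸ le_sup_left
  have hsS : s ∈ S := by rw [hS]; exact (le_sup_right : zpowers s ≤ _) (mem_zpowers s)
  have hsign : ∀ ε₁ ε₂ : ℤ, (ε₁ = 1 ∨ ε₁ = -1) → (ε₂ = 1 ∨ ε₂ = -1) →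
      (ε₁ * ε₂ = 1 ∨ ε₁ * ε₂ = -1) := by
    rintro ε₁ ε₂ (rfl | rfl) (rfl | rfl) <;> simp
  have main : ∀ χ : IrrCharacter G, (∀ t ∈ S, InvUnder G t (χ : G → ℂ)) →
      ∃ (η : IrrCharacter B) (β : IrrCharacter C) (ε₁ ε₂ : ℤ), (ε₁ = 1 ∨ ε₁ = -1) ∧
        (ε₂ = 1 ∨ ε₂ = -1) ∧ MultData p hBG (χ : G → ℂ) η ε₁ ∧
        (∀ t ∈ zpowers s, InvUnder B t (η : B → ℂ)) ∧ MultData p hCB (η : B → ℂ) β ε₂ ∧
        MultData p (hCB.trans hBG) (χ : G → ℂ) β (ε₁ * ε₂) := by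
    intro χ hinv
    obtain ⟨η, ε₁, hε₁, M₁⟩ := h1.data χ (fun t ht => hinv t (hTS ht))
    have hηs : InvUnder B s (η : B → ℂ) := by
      rw [← comp_cjAut_eq_iff s hsB]
      let η' : IrrCharacter B := ⟨(η : B → ℂ) ∘ cjAut B s hsB, isIrrCharacter_comp_equiv _ η.2⟩
      have hc : PCorr p hBG (χ : G → ℂ) η' := by
        obtain ⟨m, hm, hpm⟩ := (M₁.pcorr_iff hε₁ η).2 rfl
        refine ⟨m, ?_, hpm⟩
        have e := inner_cj hBG s hsG hsB (χ : G → ℂ) (η : B → ℂ)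
        rw [(comp_cjAut_eq_iff s hsG _).2 (hinv s hsS)] at e
        exact e.trans hm
      exact congrArg Subtype.val ((M₁.pcorr_iff hε₁ η').1 hc)
    have hηz : ∀ t ∈ zpowers s, InvUnder B t (η : B → ℂ) := fun t ht =>
      invUnder_of_mem_zpowers B s hsB hηs ht
    obtain ⟨β, ε₂, hε₂, M₂⟩ := h2.data η hηz
    exact ⟨η, β, ε₁, ε₂, hε₁, hε₂, M₁, hηz, M₂,
      MultData.comp hBG hCB (isCharacter_of_isIrrCharacter χ.2) M₁ M₂⟩
  refine ⟨?_, ?_, ?_⟩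
  · intro χ hinv
    obtain ⟨_, β, ε₁, ε₂, hε₁, hε₂, _, _, _, M⟩ := main χ hinv
    exact ⟨β, ε₁ * ε₂, hsign _ _ hε₁ hε₂, M⟩
  · intro χ χ' hinv hinv' β hc hc'
    obtain ⟨η, β₁, ε₁, ε₂, hε₁, hε₂, M₁, hη, M₂, M⟩ := main χ hinv
    obtain ⟨η', β₂, ε₁', ε₂', hε₁', hε₂', M₁', hη', M₂', M'⟩ := main χ' hinv'
    have e1 := (M.pcorr_iff (hsign _ _ hε₁ hε₂) β).1 hc
    have e2 := (M'.pcorr_iff (hsign _ _ hε₁' hε₂') β).1 hc'
    subst e1
    subst e2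
    have e3 := h2.inj η η' hη hη' β ((M₂.pcorr_iff hε₂ β).2 rfl) ((M₂'.pcorr_iff hε₂' β).2 rfl)
    subst e3
    exact h1.inj χ χ' (fun t ht => hinv t (hTS ht)) (fun t ht => hinv' t (hTS ht)) η
      ((M₁.pcorr_iff hε₁ η).2 rfl) ((M₁'.pcorr_iff hε₁' η).2 rfl)
  · intro β
    obtain ⟨η, hη, hcη⟩ := h2.surj β
    obtain ⟨χ, hχT, hcχ⟩ := h1.surj η
    have hχs : InvUnder G s (χ : G → ℂ) := by
      rw [← comp_cjAut_eq_iff s hsG]
      let χ' : IrrCharacter G := ⟨(χ : G → ℂ) ∘ cjAut G s hsG, isIrrCharacter_comp_equiv _ χ.2⟩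
      have hχ'T : ∀ t ∈ T, InvUnder G t (χ' : G → ℂ) := by
        intro t ht g g' hg
        show (χ : G → ℂ) (cjAut G s hsG g') = (χ : G → ℂ) (cjAut G s hsG g)
        apply hχT (s * t * s⁻¹) (hsT t ht)
        rw [cjAut_coe, cjAut_coe, hg]; group
      have hc' : PCorr p hBG (χ' : G → ℂ) η := by
        obtain ⟨m, hm, hpm⟩ := hcχ
        refine ⟨m, ?_, hpm⟩
        have e := inner_cj hBG s hsG hsB (χ : G → ℂ) (η : B → ℂ)
        rw [(comp_cjAut_eq_iff s hsB _).2 (hη s (mem_zpowers s))] at e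
        exact e.trans hm
      exact congrArg Subtype.val (h1.inj χ' χ hχ'T hχT η hc' hcχ)
    have hχS : ∀ t ∈ S, InvUnder G t (χ : G → ℂ) := by
      have : S ≤ stabSub G (χ : G → ℂ) := by
        rw [hS, sup_le_iff, zpowers_le]
        exact ⟨fun t ht => ⟨hTG ht, hχT t ht⟩, ⟨hsG, hχs⟩⟩
      exact fun t ht => (this ht).2
    refine ⟨χ, hχS, ?_⟩
    obtain ⟨η₁, β₁, ε₁, ε₂, hε₁, hε₂, M₁, _, M₂, M⟩ := main χ hχS
    have e1 := (M₁.pcorr_iff hε₁ η).1 hcχ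
    subst e1
    have e2 := (M₂.pcorr_iff hε₂ β).1 hcη
    subst e2
    exact (M.pcorr_iff (hsign _ _ hε₁ hε₂) β).2 rfl

end Cfsg.Agent.Lib.Helper77
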