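import Mathlib
import Cfsg.Agent.Lib.Helper77.GlaubInd

/-!
# Glauberman correspondence for `p`-groups of operators (Isaacs 13.14)
-/

set_option autoImplicit false

namespace Cfsg.Agent.Lib.Helper77

open Subgroup Cfsg

variable {Γ : Type*} [Group Γ]

theorem mem_centralizer_sup_zpowers {T : Subgroup Γ} {s x : Γ}
    (hT : x ∈ Subgroup.centralizer (T : Set Γ)) (hs : x ∈ Subgroup.centralizer ({s} : Set Γ)) :
    x ∈ Subgroup.centralizer ((T ⊔ zpowers s : Subgroup Γ) : Set Γ) := by
  have h1 : T ⊔ zpowers s ≤ Subgroup.centralizer ({x} : Set Γ) := by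
    rw [sup_le_iff, zpowers_le]
    refine ⟨fun t ht => ?_, ?_⟩
    · rw [mem_centralizer_singleton_iff]
      exact (mem_centralizer_iff.1 hT t ht)
    · rw [mem_centralizer_singleton_iff]
      exact (mem_centralizer_singleton_iff.1 hs).symm
  rw [mem_centralizer_iff]
  intro y hy
  exact (mem_centralizer_singleton_iff.1 (h1 hy))

theorem conj_mem_inf_centralizer {G T : Subgroup Γ} {u b : Γ}
    (huG : ∀ g ∈ G, u * g * u⁻¹ ∈ G) (huT : ∀ t ∈ T, u⁻¹ * t * u ∈ T)
    (hb : b ∈ G ⊓ Subgroup.centralizer (T : Set Γ)) :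
    u * b * u⁻¹ ∈ G ⊓ Subgroup.centralizer (T : Set Γ) := by
  refine mem_inf.2 ⟨huG b (mem_inf.1 hb).1, ?_⟩
  rw [mem_centralizer_iff]
  intro t ht
  have := mem_centralizer_iff.1 (mem_inf.1 hb).2 _ (huT t ht)
  calc t * (u * b * u⁻¹) = u * ((u⁻¹ * t * u) * b) * u⁻¹ := by group
    _ = u * (b * (u⁻¹ * t * u)) * u⁻¹ := by rw [this]
    _ = u * b * u⁻¹ * t := by group

variable [Finite Γ]

theorem glaub_pgroup (p : ℕ) [hp : Fact p.Prime] : ∀ (n : ℕ) (G S : Subgroup Γ), Nat.card S ≤ n →
    IsPGroup p S → S ≤ Subgroup.normalizer (G : Set Γ) → (Nat.card G).Coprime (Nat.card S) →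
    ∀ (C : Subgroup Γ) [Fintype C] (_ : C = G ⊓ Subgroup.centralizer (S : Set Γ)) (hCG : C ≤ G),
      Glaub p G S C hCG := by
  intro n
  induction n with
  | zero =>
    intro G S hn
    have := Nat.card_pos (α := S)
    omega
  | succ n ih =>
    intro G S hn hS hSG hcop C _ hC hCG
    by_cases hbot : S = ⊥
    · subst hbot
      have := glaub_cyc p 0 G 1 (one_mem _) (by simp) (by simp) C (by
        rw [hC]; congr 1) hCG
      rwa [zpowers_one_eq_bot] at this
    · have hnt : Nontrivial S := (nontrivial_iff_ne_bot S).2 hbot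
      obtain ⟨T₀, hT₀⟩ : ∃ T₀ : Subgroup S, IsCoatom T₀ := by
        rcases eq_top_or_exists_le_coatom (⊥ : Subgroup S) with h | ⟨m, hm, _⟩
        · exact absurd h bot_ne_top
        · exact ⟨m, hm⟩
      have hT₀n : T₀.Normal := Cfsg.Agent.Lib.Helper3.coatom_normal hS hT₀
      obtain ⟨x, hx⟩ : ∃ x : S, x ∉ T₀ := by
        by_contra h
        exact hT₀.1 ((eq_top_iff' _).2 (fun y => by_contra fun hy => h ⟨y, hy⟩))
      set T : Subgroup Γ := T₀.map S.subtype with hT
      set s : Γ := (x : Γ) with hs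
      have hTS : T ≤ S := map_subtype_le T₀
      have hsS : s ∈ S := x.2
      have hsT' : s ∉ T := by
        rintro ⟨y, hy, hyx⟩
        have : y = x := Subtype.ext hyx
        exact hx (this ▸ hy)
      have hlt : T < S := lt_of_le_not_ge hTS (fun h => hsT' (h hsS))
      have hcard : Nat.card T < Nat.card S :=
        Set.ncard_lt_ncard (SetLike.coe_ssubset_coe.2 hlt) (Set.toFinite _)
      have hS' : S = T ⊔ zpowers s := by
        have h1 : T₀ < T₀ ⊔ zpowers x :=
          lt_of_le_not_ge le_sup_left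
            (fun h => hx (h ((le_sup_right : zpowers x ≤ _) (mem_zpowers x))))
        have h2 := hT₀.2 _ h1
        have h3 := congrArg (Subgroup.map S.subtype) h2
        rw [Subgroup.map_sup, MonoidHom.map_zpowers, ← MonoidHom.range_eq_map, range_subtype] at h3
        exact h3.symm
      have hnT : ∀ u ∈ S, ∀ t ∈ T, u * t * u⁻¹ ∈ T := by
        rintro u hu _ ⟨y, hy, rfl⟩
        exact ⟨⟨u, hu⟩ * y * ⟨u, hu⟩⁻¹, hT₀n.conj_mem y hy _, rfl⟩
      set B : Subgroup Γ := G ⊓ Subgroup.centralizer (T : Set Γ) with hB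
      have : Fintype B := Fintype.ofFinite _
      have hBG : B ≤ G := inf_le_left
      have hSB : S ≤ Subgroup.normalizer (B : Set Γ) := by
        apply le_normalizer_of_norm
        intro u hu b hb
        apply conj_mem_inf_centralizer _ _ hb
        · intro g hg
          exact (mem_normalizer_iff.1 (hSG hu) g).1 hg
        · intro t ht
          have := hnT u⁻¹ (S.inv_mem hu) t ht
          simpa using this
      have ihT := ih G T (by omega) (hS.to_le hTS) (hTS.trans hSG)
        (Nat.Coprime.coprime_dvd_right (Subgroup.card_dvd_of_le hTS) hcop) B rfl hBG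
      obtain ⟨a, ha⟩ := hS x
      have hsp : s ^ (p ^ a) = 1 := by
        have := congrArg Subtype.val ha
        simpa using this
      have hcop' : (orderOf s).Coprime (Nat.card B) :=
        (Nat.Coprime.coprime_dvd_left (Subgroup.card_dvd_of_le hBG)
          (Nat.Coprime.coprime_dvd_right (Subgroup.orderOf_dvd_natCard S hsS) hcop)).symm
      have hC' : C = B ⊓ Subgroup.centralizer ({s} : Set Γ) := by
        rw [hC]
        ext y
        simp only [mem_inf, hB]
        constructor
        · rintro ⟨h1, h2⟩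
          refine ⟨⟨h1, ?_⟩, ?_⟩
          · exact centralizer_le (by exact_mod_cast hTS) h2
          · rw [mem_centralizer_singleton_iff]
            exact (mem_centralizer_iff.1 h2 s hsS).symm
        · rintro ⟨⟨h1, h2⟩, h3⟩
          refine ⟨h1, ?_⟩
          rw [hS']
          exact mem_centralizer_sup_zpowers h2 h3
      have hCB : C ≤ B := hC'.le.trans inf_le_left
      have hcyc := glaub_cyc p a B s (hSB hsS) hcop' hsp C hC' hCB
      exact Glaub.comp s hBG hCB (hSG hsS) (hSB hsS) (hnT s hsS) (hTS.trans hSG) hS' ihT hcyc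

end Cfsg.Agent.Lib.Helper77
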