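import Mathlib
import Cfsg.Agent.Lib.Helper77.GlaubPGroup
import Cfsg.Agent.Lib.Helper2.Solvable

/-!
# Induction machinery for solvable coprime operator groups
-/

set_option autoImplicit false

namespace Cfsg.Agent.Lib.Helper77

open Subgroup Cfsg

theorem exists_p_supplement {S : Type*} [Group S] [Finite S] [hsolv : Group.IsSolvable S]
    (K : Subgroup S) [hK : K.Normal] (hne : K ≠ ⊤) :
    ∃ p : ℕ, p.Prime ∧ ∃ P : Subgroup S, IsPGroup p P ∧ ¬ P ≤ K ∧ (K ⊔ P).Normal := by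
  have hnt : Nontrivial (S ⧸ K) := by
    rw [← not_subsingleton_iff_nontrivial]
    intro h
    exact hne ((QuotientGroup.subsingleton_iff).1 h)
  obtain ⟨p, N, hp, hNc, hNne, hNp, _⟩ :=
    Cfsg.Agent.Lib.Helper2.exists_characteristic_pgroup_of_solvable (G := S ⧸ K)
  have : Fact p.Prime := ⟨hp⟩
  set T : Subgroup S := N.comap (QuotientGroup.mk' K) with hT
  have hTn : T.Normal := inferInstance
  have hKT : K ≤ T := by
    intro k hk
    rw [hT, mem_comap]
    have : QuotientGroup.mk' K k = 1 := (QuotientGroup.eq_one_iff k).2 hk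
    rw [this]; exact one_mem _
  obtain ⟨P₀⟩ : Nonempty (Sylow p T) := inferInstance
  set P : Subgroup S := (P₀ : Subgroup T).map T.subtype with hP
  have hPT : P ≤ T := map_subtype_le _
  have hmap : T.map (QuotientGroup.mk' K) = N :=
    map_comap_eq_self_of_surjective (QuotientGroup.mk'_surjective K) N
  have h1 : K.relIndex T = Nat.card N := by
    have : K = (⊥ : Subgroup (S ⧸ K)).comap (QuotientGroup.mk' K) := by
      rw [MonoidHom.comap_bot, QuotientGroup.ker_mk']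
    conv_lhs => rw [this]
    rw [relIndex_comap, hmap, relIndex_bot_left]
  have h2 : ¬ p ∣ P.relIndex T := by
    rw [relIndex, subgroupOf, hP, comap_map_eq_self_of_injective T.subtype_injective]
    exact P₀.not_dvd_index
  have h3 : (K ⊔ P).relIndex T = 1 := by
    have d1 : (K ⊔ P).relIndex T ∣ K.relIndex T := relIndex_dvd_of_le_left T le_sup_left
    have d2 : (K ⊔ P).relIndex T ∣ P.relIndex T := relIndex_dvd_of_le_left T le_sup_right
    obtain ⟨k, hk⟩ := IsPGroup.iff_card.1 hNp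
    rw [h1, hk] at d1
    obtain ⟨j, _, hj⟩ := (Nat.dvd_prime_pow hp).1 d1
    rcases Nat.eq_zero_or_pos j with h0 | h0
    · rw [hj, h0, pow_zero]
    · exfalso
      apply h2
      refine dvd_trans ?_ d2
      rw [hj]
      exact dvd_pow_self p h0.ne'
  have h4 : K ⊔ P = T := le_antisymm (sup_le hKT hPT) (relIndex_eq_one.1 h3)
  refine ⟨p, hp, P, P₀.2.map _, ?_, by rw [h4]; exact hTn⟩
  intro hPK
  apply hNne
  rw [← hmap, ← h4, sup_eq_left.2 hPK]
  rw [eq_bot_iff]
  rintro _ ⟨k, hk, rfl⟩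
  exact (QuotientGroup.eq_one_iff k).2 hk

theorem exists_p_supplement' {Γ : Type*} [Group Γ] [Finite Γ] (S K : Subgroup Γ)
    (hsolv : Group.IsSolvable S) (hKS : K ≤ S) (hn : ∀ u ∈ S, ∀ k ∈ K, u * k * u⁻¹ ∈ K)
    (hne : K ≠ S) :
    ∃ p : ℕ, p.Prime ∧ ∃ P : Subgroup Γ, P ≤ S ∧ IsPGroup p P ∧ ¬ P ≤ K ∧
      ∀ u ∈ S, ∀ t ∈ K ⊔ P, u * t * u⁻¹ ∈ K ⊔ P := by
  have hKn : (K.subgroupOf S).Normal := by
    constructor
    intro k hk u
    exact hn u u.2 k hk
  have hne' : K.subgroupOf S ≠ ⊤ := by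
    intro h
    exact hne (le_antisymm hKS (subgroupOf_eq_top.1 h))
  obtain ⟨p, hp, P, hP, hPK, hnorm⟩ := exists_p_supplement (K.subgroupOf S) hne'
  have hmapK : (K.subgroupOf S).map S.subtype = K := map_subgroupOf_eq_of_le hKS
  refine ⟨p, hp, P.map S.subtype, map_subtype_le _, hP.map _, ?_, ?_⟩
  · intro h
    apply hPK
    intro x hx
    exact h ⟨x, hx, rfl⟩
  · intro u hu t ht
    rw [← hmapK, ← Subgroup.map_sup] at ht ⊢
    obtain ⟨y, hy, rfl⟩ := ht
    exact ⟨⟨u, hu⟩ * y * ⟨u, hu⟩⁻¹, hnorm.conj_mem y hy _, rfl⟩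

section

variable {Γ : Type*} [Group Γ] [Finite Γ]

open Cfsg.Agent.Lib.Helper5 Cfsg.Agent.Lib.Helper20

theorem Glaub.congr_inv {p : ℕ} {G S S' C : Subgroup Γ} [Fintype C] {hCG : C ≤ G}
    (h : Glaub p G S C hCG)
    (he : ∀ χ : G → ℂ, (∀ s ∈ S', InvUnder G s χ) ↔ (∀ s ∈ S, InvUnder G s χ)) :
    Glaub p G S' C hCG := by
  refine ⟨?_, ?_, ?_⟩
  · intro χ hinv
    exact h.data χ ((he _).1 hinv)
  · intro χ χ' hinv hinv'
    exact h.inj χ χ' ((he _).1 hinv) ((he _).1 hinv')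
  · intro β
    obtain ⟨χ, h1, h2⟩ := h.surj β
    exact ⟨χ, (he _).2 h1, h2⟩

omit [Finite Γ] in
theorem centralizer_le_stabSub (G : Subgroup Γ) (χ : G → ℂ) :
    Subgroup.centralizer (G : Set Γ) ≤ stabSub G χ := by
  intro k hk
  have hkc : ∀ g ∈ G, k * g * k⁻¹ = g := by
    intro g hg
    have := mem_centralizer_iff.1 hk g hg
    rw [← this]; group
  refine ⟨?_, ?_⟩
  · rw [mem_normalizer_iff]
    intro g
    constructor
    · intro hg; rw [hkc g hg]; exact hg
    · intro hg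
      have h1 : k⁻¹ ∈ Subgroup.centralizer (G : Set Γ) := inv_mem hk
      have := mem_centralizer_iff.1 h1 _ hg
      have e : g = k⁻¹ * (k * g * k⁻¹) * k := by group
      rw [e, ← this]
      simpa [mul_assoc] using hg
  · intro g g' hg
    have : g' = g := Subtype.ext (by rw [hg, hkc g g.2])
    rw [this]

theorem glaub_supp (p : ℕ) [hp : Fact p.Prime] (G K P : Subgroup Γ)
    (hK : K ≤ Subgroup.centralizer (G : Set Γ)) (hP : IsPGroup p P)
    (hPG : P ≤ Subgroup.normalizer (G : Set Γ)) (hcop : (Nat.card G).Coprime (Nat.card P))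
    (B : Subgroup Γ) [Fintype B]
    (hB : B = G ⊓ Subgroup.centralizer ((K ⊔ P : Subgroup Γ) : Set Γ)) (hBG : B ≤ G) :
    Glaub p G (K ⊔ P) B hBG := by
  have hB' : B = G ⊓ Subgroup.centralizer (P : Set Γ) := by
    rw [hB]
    apply le_antisymm
    · exact inf_le_inf_left _ (centralizer_le (by exact_mod_cast (le_sup_right : P ≤ K ⊔ P)))
    · intro x hx
      refine mem_inf.2 ⟨(mem_inf.1 hx).1, ?_⟩
      have h1 : K ⊔ P ≤ Subgroup.centralizer ({x} : Set Γ) := by
        rw [sup_le_iff]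
        refine ⟨fun k hk => ?_, fun y hy => ?_⟩
        · rw [mem_centralizer_singleton_iff]
          exact (mem_centralizer_iff.1 (hK hk) x (mem_inf.1 hx).1).symm
        · rw [mem_centralizer_singleton_iff]
          exact (mem_centralizer_iff.1 (mem_inf.1 hx).2 y hy)
      rw [mem_centralizer_iff]
      intro y hy
      exact (mem_centralizer_singleton_iff.1 (h1 hy))
  refine (glaub_pgroup p _ G P le_rfl hP hPG hcop B hB' hBG).congr_inv ?_
  intro χ
  constructor
  · intro h s hs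
    exact h s ((le_sup_right : P ≤ K ⊔ P) hs)
  · intro h
    have : K ⊔ P ≤ stabSub G χ :=
      sup_le (hK.trans (centralizer_le_stabSub G χ)) (fun y hy => ⟨hPG hy, h y hy⟩)
    exact fun s hs => (this hs).2

theorem Glaub.exists_pcorr {p : ℕ} [hp : Fact p.Prime] {G T B : Subgroup Γ} [Fintype B]
    {hBG : B ≤ G} (h : Glaub p G T B hBG) (χ : IrrCharacter G)
    (hχT : ∀ t ∈ T, InvUnder G t (χ : G → ℂ)) : ∃ η : IrrCharacter B, PCorr p hBG (χ : G → ℂ) η := by
  obtain ⟨η, ε, hε, M⟩ := h.data χ hχT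
  exact ⟨η, (M.pcorr_iff hε η).2 rfl⟩

theorem Glaub.pcorr_unique {p : ℕ} [hp : Fact p.Prime] {G T B : Subgroup Γ} [Fintype B]
    {hBG : B ≤ G} (h : Glaub p G T B hBG) (χ : IrrCharacter G)
    (hχT : ∀ t ∈ T, InvUnder G t (χ : G → ℂ)) {η η' : IrrCharacter B}
    (h1 : PCorr p hBG (χ : G → ℂ) η) (h2 : PCorr p hBG (χ : G → ℂ) η') : η = η' := by
  obtain ⟨η₀, ε, hε, M⟩ := h.data χ hχT
  rw [(M.pcorr_iff hε η).1 h1, (M.pcorr_iff hε η').1 h2]

theorem Glaub.inv_down {p : ℕ} [hp : Fact p.Prime] {G T B : Subgroup Γ} [Fintype B]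
    {hBG : B ≤ G} (h : Glaub p G T B hBG) (u : Γ) (huG : u ∈ Subgroup.normalizer (G : Set Γ))
    (huB : u ∈ Subgroup.normalizer (B : Set Γ)) (χ : IrrCharacter G)
    (hχT : ∀ t ∈ T, InvUnder G t (χ : G → ℂ)) (hχu : InvUnder G u (χ : G → ℂ))
    (η : IrrCharacter B) (hc : PCorr p hBG (χ : G → ℂ) η) : InvUnder B u (η : B → ℂ) := by
  rw [← comp_cjAut_eq_iff u huB]
  let η' : IrrCharacter B := ⟨(η : B → ℂ) ∘ cjAut B u huB, isIrrCharacter_comp_equiv _ η.2⟩
  have hc' : PCorr p hBG (χ : G → ℂ) η' := by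
    obtain ⟨m, hm, hpm⟩ := hc
    refine ⟨m, ?_, hpm⟩
    have e := inner_cj hBG u huG huB (χ : G → ℂ) (η : B → ℂ)
    rw [(comp_cjAut_eq_iff u huG _).2 hχu] at e
    exact e.trans hm
  exact congrArg Subtype.val (h.pcorr_unique χ hχT hc' hc)

theorem Glaub.inv_up {p : ℕ} [hp : Fact p.Prime] {G T B : Subgroup Γ} [Fintype B]
    {hBG : B ≤ G} (h : Glaub p G T B hBG) (u : Γ) (huG : u ∈ Subgroup.normalizer (G : Set Γ))
    (huB : u ∈ Subgroup.normalizer (B : Set Γ)) (huT : ∀ t ∈ T, u * t * u⁻¹ ∈ T)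
    (χ : IrrCharacter G) (hχT : ∀ t ∈ T, InvUnder G t (χ : G → ℂ))
    (η : IrrCharacter B) (hc : PCorr p hBG (χ : G → ℂ) η) (hηu : InvUnder B u (η : B → ℂ)) :
    InvUnder G u (χ : G → ℂ) := by
  rw [← comp_cjAut_eq_iff u huG]
  let χ' : IrrCharacter G := ⟨(χ : G → ℂ) ∘ cjAut G u huG, isIrrCharacter_comp_equiv _ χ.2⟩
  have hχ'T : ∀ t ∈ T, InvUnder G t (χ' : G → ℂ) := by
    intro t ht g g' hg
    show (χ : G → ℂ) (cjAut G u huG g') = (χ : G → ℂ) (cjAut G u huG g)
    apply hχT (u * t * u⁻¹) (huT t ht)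
    rw [cjAut_coe, cjAut_coe, hg]; group
  have hc' : PCorr p hBG (χ' : G → ℂ) η := by
    obtain ⟨m, hm, hpm⟩ := hc
    refine ⟨m, ?_, hpm⟩
    have e := inner_cj hBG u huG huB (χ : G → ℂ) (η : B → ℂ)
    rw [(comp_cjAut_eq_iff u huB _).2 hηu] at e
    exact e.trans hm
  exact congrArg Subtype.val (h.inj χ' χ hχ'T hχT η hc' hc)

theorem Glaub.card_inv_eq {p : ℕ} [hp : Fact p.Prime] {G T B : Subgroup Γ} [Fintype B]
    {hBG : B ≤ G} (h : Glaub p G T B hBG) (S : Subgroup Γ) (hTS : T ≤ S)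
    (hSG : S ≤ Subgroup.normalizer (G : Set Γ)) (hSB : S ≤ Subgroup.normalizer (B : Set Γ))
    (hST : ∀ u ∈ S, ∀ t ∈ T, u * t * u⁻¹ ∈ T) :
    Nat.card {χ : IrrCharacter G // ∀ s ∈ S, InvUnder G s (χ : G → ℂ)} =
      Nat.card {η : IrrCharacter B // ∀ s ∈ S, InvUnder B s (η : B → ℂ)} := by
  have hex : ∀ χ : {χ : IrrCharacter G // ∀ s ∈ S, InvUnder G s (χ : G → ℂ)},
      ∃ η : IrrCharacter B, PCorr p hBG (χ.1 : G → ℂ) η :=
    fun χ => h.exists_pcorr χ.1 (fun t ht => χ.2 t (hTS ht))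
  choose f hf using hex
  refine Nat.card_congr (Equiv.ofBijective
    (fun χ => (⟨f χ, fun u hu => h.inv_down u (hSG hu) (hSB hu) χ.1
      (fun t ht => χ.2 t (hTS ht)) (χ.2 u hu) (f χ) (hf χ)⟩ :
      {η : IrrCharacter B // ∀ s ∈ S, InvUnder B s (η : B → ℂ)})) ⟨?_, ?_⟩)
  · intro χ χ' he
    have he' : f χ = f χ' := congrArg Subtype.val he
    apply Subtype.ext
    exact h.inj χ.1 χ'.1 (fun t ht => χ.2 t (hTS ht)) (fun t ht => χ'.2 t (hTS ht)) (f χ) (hf χ)
      (he' ▸ hf χ')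
  · rintro ⟨η, hη⟩
    obtain ⟨χ, hχT, hc⟩ := h.surj η
    have hχS : ∀ s ∈ S, InvUnder G s (χ : G → ℂ) := fun u hu =>
      h.inv_up u (hSG hu) (hSB hu) (hST u hu) χ hχT η hc (hη u hu)
    refine ⟨⟨χ, hχS⟩, ?_⟩
    apply Subtype.ext
    exact h.pcorr_unique χ hχT (hf ⟨χ, hχS⟩) hc

theorem solv_induction (S : Subgroup Γ) (hsolv : Group.IsSolvable S) (Pr : Subgroup Γ → Prop)
    (base : ∀ G : Subgroup Γ, S ≤ Subgroup.centralizer (G : Set Γ) → Pr G)
    (step : ∀ G : Subgroup Γ, S ≤ Subgroup.normalizer (G : Set Γ) →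
      (Nat.card G).Coprime (Nat.card S) → ∀ (p : ℕ) (K P : Subgroup Γ), p.Prime →
      K ≤ Subgroup.centralizer (G : Set Γ) → K ≤ S → P ≤ S → IsPGroup p P →
      (∀ u ∈ S, ∀ t ∈ K ⊔ P, u * t * u⁻¹ ∈ K ⊔ P) →
      S ≤ Subgroup.normalizer ((G ⊓ Subgroup.centralizer ((K ⊔ P : Subgroup Γ) : Set Γ) :
        Subgroup Γ) : Set Γ) →
      Pr (G ⊓ Subgroup.centralizer ((K ⊔ P : Subgroup Γ) : Set Γ)) → Pr G) :
    ∀ G : Subgroup Γ, S ≤ Subgroup.normalizer (G : Set Γ) →
      (Nat.card G).Coprime (Nat.card S) → Pr G := by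
  have key : ∀ (n : ℕ) (G : Subgroup Γ), Nat.card G ≤ n → S ≤ Subgroup.normalizer (G : Set Γ) →
      (Nat.card G).Coprime (Nat.card S) → Pr G := by
    intro n
    induction n with
    | zero =>
      intro G hn
      have := Nat.card_pos (α := G)
      omega
    | succ n ih =>
      intro G hn hSG hcop
      by_cases hc : S ≤ Subgroup.centralizer (G : Set Γ)
      · exact base G hc
      · set K : Subgroup Γ := S ⊓ Subgroup.centralizer (G : Set Γ) with hK
        have hKS : K ≤ S := inf_le_left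
        have hKne : K ≠ S := fun h => hc (h ▸ inf_le_right)
        have hKn : ∀ u ∈ S, ∀ k ∈ K, u * k * u⁻¹ ∈ K := by
          intro u hu k hk
          refine mem_inf.2 ⟨S.mul_mem (S.mul_mem hu (mem_inf.1 hk).1) (S.inv_mem hu), ?_⟩
          rw [mem_centralizer_iff]
          intro g hg
          have hg' : u⁻¹ * g * u ∈ G := by
            have := (mem_normalizer_iff.1 (hSG (S.inv_mem hu)) g).1 hg
            simpa using this
          have := mem_centralizer_iff.1 (mem_inf.1 hk).2 _ hg'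
          calc g * (u * k * u⁻¹) = u * ((u⁻¹ * g * u) * k) * u⁻¹ := by group
            _ = u * (k * (u⁻¹ * g * u)) * u⁻¹ := by rw [this]
            _ = u * k * u⁻¹ * g := by group
        obtain ⟨p, hp, P, hPS, hP, hPK, hnT⟩ := exists_p_supplement' S K hsolv hKS hKn hKne
        set B : Subgroup Γ := G ⊓ Subgroup.centralizer ((K ⊔ P : Subgroup Γ) : Set Γ) with hB
        have hSB : S ≤ Subgroup.normalizer (B : Set Γ) := by
          apply le_normalizer_of_norm
          intro u hu b hb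
          apply conj_mem_inf_centralizer _ _ hb
          · intro g hg
            exact (mem_normalizer_iff.1 (hSG hu) g).1 hg
          · intro t ht
            have := hnT u⁻¹ (S.inv_mem hu) t ht
            simpa using this
        have hBlt : B < G := by
          refine lt_of_le_not_ge inf_le_left ?_
          intro hGB
          apply hPK
          intro y hy
          refine mem_inf.2 ⟨hPS hy, ?_⟩
          rw [mem_centralizer_iff]
          intro g hg
          exact (mem_centralizer_iff.1 (mem_inf.1 (hGB hg)).2 y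
            ((le_sup_right : P ≤ K ⊔ P) hy)).symm
        have hcard : Nat.card B < Nat.card G :=
          Set.ncard_lt_ncard (SetLike.coe_ssubset_coe.2 hBlt) (Set.toFinite _)
        exact step G hSG hcop p K P hp inf_le_right hKS hPS hP hnT hSB
          (ih B (by omega) hSB (Nat.Coprime.coprime_dvd_left (Subgroup.card_dvd_of_le hBlt.le) hcop))
  exact fun G => key _ G le_rfl

theorem card_inv_irr_solv (S : Subgroup Γ) (hsolv : Group.IsSolvable S) (G : Subgroup Γ)
    (hSG : S ≤ Subgroup.normalizer (G : Set Γ)) (hcop : (Nat.card G).Coprime (Nat.card S)) :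
    Nat.card {χ : IrrCharacter G // ∀ s ∈ S, InvUnder G s (χ : G → ℂ)} =
      Nat.card (IrrCharacter (G ⊓ Subgroup.centralizer (S : Set Γ) : Subgroup Γ)) := by
  refine solv_induction S hsolv (fun G =>
    Nat.card {χ : IrrCharacter G // ∀ s ∈ S, InvUnder G s (χ : G → ℂ)} =
      Nat.card (IrrCharacter (G ⊓ Subgroup.centralizer (S : Set Γ) : Subgroup Γ))) ?_ ?_ G hSG hcop
  · intro G hc
    have h1 : G ⊓ Subgroup.centralizer (S : Set Γ) = G :=
      inf_eq_left.2 (le_centralizer_iff.1 hc)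
    rw [h1]
    exact Nat.card_congr (Equiv.subtypeUnivEquiv fun χ s hs =>
      ((centralizer_le_stabSub G _) (hc hs)).2)
  · intro G hSG hcop p K P hp hK hKS hPS hP hnT hSB ih
    have : Fact p.Prime := ⟨hp⟩
    have : Fintype (G ⊓ Subgroup.centralizer ((K ⊔ P : Subgroup Γ) : Set Γ) : Subgroup Γ) :=
      Fintype.ofFinite _
    have hGl := glaub_supp p G K P hK hP (hPS.trans hSG)
      (Nat.Coprime.coprime_dvd_right (Subgroup.card_dvd_of_le hPS) hcop) _ rfl inf_le_left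
    rw [hGl.card_inv_eq S (sup_le hKS hPS) hSG hSB hnT, ih]
    have h2 : G ⊓ Subgroup.centralizer ((K ⊔ P : Subgroup Γ) : Set Γ) ⊓
        Subgroup.centralizer (S : Set Γ) = G ⊓ Subgroup.centralizer (S : Set Γ) := by
      rw [inf_assoc]
      congr 1
      exact inf_eq_right.2 (centralizer_le (by exact_mod_cast (sup_le hKS hPS)))
    rw [h2]

end

end Cfsg.Agent.Lib.Helper77
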