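import Mathlib
import Cfsg.Agent.Lib.Helper77.GlaubSolv
import Cfsg.Agent.Lib.Helper20.OrbitSum
import Cfsg.Agent.Lib.Helper82.Constituent

/-!
# Glauberman correspondence and normal subgroups (towards Isaacs 13.29 - 13.31)
-/

set_option autoImplicit false
set_option linter.unusedSectionVars false

namespace Cfsg.Agent.Lib.Helper77

open Subgroup Cfsg Cfsg.Agent.Lib.Helper20 Cfsg.Agent.Lib.Helper5

variable {Γ : Type*} [Group Γ] [Finite Γ]

theorem inner_res_expand {G B C : Subgroup Γ} [Fintype B] [Fintype C] [Fintype (IrrCharacter B)]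
    (hBG : B ≤ G) (hCB : C ≤ B) {χ : G → ℂ} (hχ : IsCharacter G χ) (γ : C → ℂ) :
    classInner (fun c : C => χ ⟨c, (hCB.trans hBG) c.2⟩) γ =
      ∑ η : IrrCharacter B, classInner (fun b : B => χ ⟨b, hBG b.2⟩) (η : B → ℂ) *
        classInner (fun c : C => (η : B → ℂ) ⟨c, hCB c.2⟩) γ := by
  have hexp := eq_sum_classInner_smul
    (isClassFunction_of_isCharacter (isCharacter_res hBG hχ))
  have hres : (fun c : C => χ ⟨c, (hCB.trans hBG) c.2⟩) =
      ∑ η : IrrCharacter B, classInner (fun b : B => χ ⟨b, hBG b.2⟩) (η : B → ℂ) •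
        (fun c : C => (η : B → ℂ) ⟨c, hCB c.2⟩) := by
    funext c
    have := congrFun hexp ⟨c, hCB c.2⟩
    rw [Finset.sum_apply] at this ⊢
    exact this
  rw [hres, classInner_sum_left]
  refine Finset.sum_congr rfl fun η _ => ?_
  rw [classInner_smul_left]

/-- going through `B`: multiplicities mod `p` only see the correspondent. -/
theorem MultData.inner_res {p : ℕ} {G B C : Subgroup Γ} [Fintype B] [Fintype C]
    (hBG : B ≤ G) (hCB : C ≤ B) {χ : G → ℂ} (hχ : IsCharacter G χ) {η : IrrCharacter B}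
    {ε₁ : ℤ} (h1 : MultData p hBG χ η ε₁) (γ : IrrCharacter C) :
    ∃ m b : ℕ, classInner (fun c : C => χ ⟨c, (hCB.trans hBG) c.2⟩) (γ : C → ℂ) = m ∧
      classInner (fun c : C => (η : B → ℂ) ⟨c, hCB c.2⟩) (γ : C → ℂ) = b ∧
      (m : ZMod p) = (ε₁ : ZMod p) * (b : ZMod p) := by
  classical
  have := finite_irrCharacter (G := B)
  have := Fintype.ofFinite (IrrCharacter B)
  choose a ha ha1 ha2 using h1
  have hb : ∀ η' : IrrCharacter B, ∃ b : ℕ,
      classInner (fun c : C => (η' : B → ℂ) ⟨c, hCB c.2⟩) (γ : C → ℂ) = b := fun η' =>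
    isCharacter_classInner_nat (isCharacter_res hCB (isCharacter_of_isIrrCharacter η'.2)) γ.2
  choose b hb using hb
  refine ⟨∑ η' : IrrCharacter B, a η' * b η', b η, ?_, hb η, ?_⟩
  · rw [inner_res_expand hBG hCB hχ]
    push_cast
    refine Finset.sum_congr rfl fun η' _ => ?_
    rw [ha, hb]
  · push_cast
    rw [Finset.sum_eq_single η]
    · rw [ha1 η rfl]
    · intro η' _ hne
      rw [ha2 η' hne, zero_mul]
    · intro h; exact absurd (Finset.mem_univ _) h

/-- the action of a normalising subgroup on the irreducible characters -/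
@[reducible] noncomputable def irrAct (N P : Subgroup Γ)
    (hPN : P ≤ Subgroup.normalizer (N : Set Γ)) : MulAction P (IrrCharacter N) where
  smul u φ := ⟨(φ : N → ℂ) ∘ cjAut N ((u : Γ)⁻¹) (inv_mem (hPN u.2)),
    isIrrCharacter_comp_equiv _ φ.2⟩
  one_smul φ := by
    apply Subtype.ext
    funext n
    show (φ : N → ℂ) (cjAut N (((1 : P) : Γ)⁻¹) _ n) = (φ : N → ℂ) n
    apply congrArg (φ : N → ℂ)
    apply Subtype.ext
    rw [cjAut_coe]
    simp
  mul_smul u v φ := by
    apply Subtype.ext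
    funext n
    show (φ : N → ℂ) (cjAut N (((u * v : P) : Γ)⁻¹) _ n) =
      (φ : N → ℂ) (cjAut N ((v : Γ)⁻¹) _ (cjAut N ((u : Γ)⁻¹) _ n))
    apply congrArg (φ : N → ℂ)
    apply Subtype.ext
    rw [cjAut_coe, cjAut_coe, cjAut_coe]
    push_cast
    group

theorem irrAct_smul_coe (N P : Subgroup Γ) (hPN : P ≤ Subgroup.normalizer (N : Set Γ)) (u : P)
    (φ : IrrCharacter N) :
    (((irrAct N P hPN).smul u φ : IrrCharacter N) : N → ℂ) =
      (φ : N → ℂ) ∘ cjAut N ((u : Γ)⁻¹) (inv_mem (hPN u.2)) := rfl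

theorem mem_fixedPoints_irrAct (N P : Subgroup Γ) (hPN : P ≤ Subgroup.normalizer (N : Set Γ))
    (φ : IrrCharacter N) :
    φ ∈ @MulAction.fixedPoints P (IrrCharacter N) _ (irrAct N P hPN) ↔
      ∀ u ∈ P, InvUnder N u (φ : N → ℂ) := by
  constructor
  · intro h u hu
    have h1 := h ⟨u⁻¹, P.inv_mem hu⟩
    have h2 := congrArg Subtype.val h1
    have h3 : (φ : N → ℂ) ∘ cjAut N ((u⁻¹)⁻¹) (inv_mem (hPN (P.inv_mem hu))) = (φ : N → ℂ) := h2
    have h4 := (comp_cjAut_eq_iff _ _ _).1 h3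
    simpa using h4
  · intro h u
    apply Subtype.ext
    exact (comp_cjAut_eq_iff _ (inv_mem (hPN u.2)) _).2 (h _ (P.inv_mem u.2))

/-- going through `N`: only the `P`-invariant constituents matter mod `p`. -/
theorem inner_res_orbit {p : ℕ} [hp : Fact p.Prime] {G N N' P : Subgroup Γ} [Fintype N] [Fintype N']
    [Fintype (IrrCharacter N)] [DecidablePred fun φ : IrrCharacter N => ∀ u ∈ P, InvUnder N u (φ : N → ℂ)]
    (hNG : N ≤ G) (hN'N : N' ≤ N) (hP : IsPGroup p P)
    (hPG : P ≤ Subgroup.normalizer (G : Set Γ)) (hPN : P ≤ Subgroup.normalizer (N : Set Γ))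
    (hPN' : P ≤ Subgroup.centralizer (N' : Set Γ))
    {χ : G → ℂ} (hχ : IsCharacter G χ) (hχP : ∀ u ∈ P, InvUnder G u χ) (γ : IrrCharacter N')
    (a c : IrrCharacter N → ℕ)
    (ha : ∀ φ : IrrCharacter N, classInner (fun n : N => χ ⟨n, hNG n.2⟩) (φ : N → ℂ) = a φ)
    (hc : ∀ φ : IrrCharacter N,
      classInner (fun n : N' => (φ : N → ℂ) ⟨n, hN'N n.2⟩) (γ : N' → ℂ) = c φ) :
    ∃ m : ℕ, classInner (fun n : N' => χ ⟨n, (hN'N.trans hNG) n.2⟩) (γ : N' → ℂ) = m ∧
      (m : ZMod p) = ∑ φ ∈ Finset.univ.filter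
        (fun φ : IrrCharacter N => ∀ u ∈ P, InvUnder N u (φ : N → ℂ)), (a φ : ZMod p) * (c φ : ZMod p) := by
  classical
  let _ := irrAct N P hPN
  refine ⟨∑ φ : IrrCharacter N, a φ * c φ, ?_, ?_⟩
  · rw [inner_res_expand hNG hN'N hχ]
    push_cast
    refine Finset.sum_congr rfl fun φ _ => ?_
    rw [ha, hc]
  · have hinv : ∀ (u : P) (φ : IrrCharacter N),
        ((a (u • φ) * c (u • φ) : ℕ) : ZMod p) = ((a φ * c φ : ℕ) : ZMod p) := by
      intro u φ
      have hu' : (u : Γ)⁻¹ ∈ P := P.inv_mem u.2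
      have e1 : a (u • φ) = a φ := by
        have : (a (u • φ) : ℂ) = (a φ : ℂ) := by
          rw [← ha, ← ha]
          have e := inner_cj hNG ((u : Γ)⁻¹) (hPG hu') (hPN hu') χ (φ : N → ℂ)
          rw [(comp_cjAut_eq_iff _ (hPG hu') _).2 (hχP _ hu')] at e
          exact e
        exact_mod_cast this
      have e2 : c (u • φ) = c φ := by
        have : (c (u • φ) : ℂ) = (c φ : ℂ) := by
          rw [← hc, ← hc]
          congr 1
          funext n
          show (φ : N → ℂ) (cjAut N ((u : Γ)⁻¹) _ ⟨n, hN'N n.2⟩) = (φ : N → ℂ) ⟨n, hN'N n.2⟩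
          apply congrArg (φ : N → ℂ)
          apply Subtype.ext
          rw [cjAut_coe]
          have := mem_centralizer_iff.1 (hPN' hu') n n.2
          show (u : Γ)⁻¹ * (n : Γ) * ((u : Γ)⁻¹)⁻¹ = n
          rw [← this]; group
        exact_mod_cast this
      rw [e1, e2]
    obtain ⟨x, _, hx⟩ := Cfsg.Agent.Lib.Helper20.orbit_sum (p := p) (P := P) hP
      (X := IrrCharacter N) (⊤ : AddSubgroup (ZMod p))
      (fun φ => ((a φ * c φ : ℕ) : ZMod p)) hinv (fun _ => trivial)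
    have hpx : p • x = 0 := by
      rw [nsmul_eq_mul]; simp
    rw [hpx, add_zero] at hx
    push_cast at hx ⊢
    rw [hx]
    apply Finset.sum_congr
    · ext φ
      simp only [Finset.mem_filter, Finset.mem_univ, true_and]
      exact mem_fixedPoints_irrAct N P hPN φ
    · intro _ _; rfl

end Cfsg.Agent.Lib.Helper77
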