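import Mathlib
import Cfsg.Agent.Lib.Helper77.GlaubOver

/-!
# Invariant characters over invariant characters (Isaacs 13.29/13.30, solvable operator group)
-/

set_option autoImplicit false
set_option linter.unusedSectionVars false

namespace Cfsg.Agent.Lib.Helper77

open Subgroup Cfsg Cfsg.Agent.Lib.Helper20 Cfsg.Agent.Lib.Helper5

theorem mult_dvd_degree {G : Type*} [Group G] [Fintype G] (N : Subgroup G) [Fintype N]
    (hN : N.Normal) {θ : G → ℂ} (hθ : IsIrrCharacter G θ) {χ : N → ℂ} (hχ : IsIrrCharacter N χ)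
    (e d : ℕ) (he : classInner (fun n : N => θ n) χ = e) (he0 : e ≠ 0) (hd : θ 1 = d) : e ∣ d := by
  classical
  have hcl := clifford hN hθ hχ (by rw [he]; exact_mod_cast he0)
  have := finite_irrCharacter (G := N)
  have hfin : {ψ : N → ℂ | ∃ g : G, ψ = cjF hN χ g}.Finite := by
    apply Set.Finite.subset (Set.finite_range (Subtype.val : IrrCharacter N → (N → ℂ)))
    rintro ψ ⟨g, rfl⟩
    exact ⟨⟨_, isIrrCharacter_cjF hN hχ g⟩, rfl⟩
  obtain ⟨c, hc⟩ := isCharacter_apply_one (isCharacter_of_isIrrCharacter hχ)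
  have h1 := congrFun hcl 1
  rw [finsum_mem_eq_finite_toFinset_sum _ hfin, Pi.smul_apply, Finset.sum_apply, he] at h1
  have h2 : ∀ ψ ∈ hfin.toFinset, ψ 1 = (c : ℂ) := by
    intro ψ hψ
    obtain ⟨g, rfl⟩ := (Set.Finite.mem_toFinset hfin).1 hψ
    rw [cjF_apply, ← hc]
    congr 1
    apply Subtype.ext
    simp
  rw [Finset.sum_congr rfl h2, Finset.sum_const] at h1
  have h3 : (d : ℂ) = ((e * (hfin.toFinset.card * c) : ℕ) : ℂ) := by
    rw [← hd]
    push_cast
    simpa using h1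
  exact ⟨_, by exact_mod_cast h3⟩

theorem exists_irr_over₀ {G : Type*} [Group G] [Fintype G] (H : Subgroup G) [Fintype H]
    {θ : H → ℂ} (hθ : IsIrrCharacter H θ) :
    ∃ χ : IrrCharacter G, classInner (fun h : H => (χ : G → ℂ) h) θ ≠ 0 := by
  have hφ := Cfsg.Agent.Lib.Helper19.isCharacter_indFun H θ (isCharacter_of_isIrrCharacter hθ)
  have h1 : indFun H θ 1 ≠ 0 := by
    rw [Cfsg.Agent.Lib.Helper82.indFun_one]
    refine mul_ne_zero ?_ (Cfsg.Agent.Lib.Helper79.IsIrrCharacter.one_ne_zero hθ)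
    exact_mod_cast H.index_ne_zero_of_finite
  obtain ⟨χ, hχ⟩ := Cfsg.Agent.Lib.Helper82.exists_irr_constituent hφ h1
  refine ⟨χ, ?_⟩
  rw [Cfsg.Agent.Lib.Helper19.frobenius_reciprocity H θ χ
    (isClassFunction_of_isCharacter (isCharacter_of_isIrrCharacter χ.2)),
    ← classInner_conj_symm] at hχ
  simpa using hχ

variable {Γ : Type*} [Group Γ] [Finite Γ]

theorem inner_subgroupOf {G N : Subgroup Γ} (hNG : N ≤ G) [Fintype N] [Fintype (N.subgroupOf G)]
    (η : G → ℂ) (θ : N → ℂ) :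
    classInner (fun n : N.subgroupOf G => η n) (θ ∘ subgroupOfEquivOfLe hNG) =
      classInner (fun n : N => η ⟨n, hNG n.2⟩) θ := by
  rw [← classInner_comp_equiv (subgroupOfEquivOfLe hNG)]
  rfl

theorem mult_dvd_degree' {G N : Subgroup Γ} [Fintype N] (hNG : N ≤ G)
    (hn : ∀ g ∈ G, ∀ n ∈ N, g * n * g⁻¹ ∈ N) {η : G → ℂ} (hη : IsIrrCharacter G η)
    {θ : N → ℂ} (hθ : IsIrrCharacter N θ) (e d : ℕ)
    (he : classInner (fun n : N => η ⟨n, hNG n.2⟩) θ = e) (he0 : e ≠ 0) (hd : η 1 = d) : e ∣ d := by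
  have : Fintype G := Fintype.ofFinite _
  have : Fintype (N.subgroupOf G) := Fintype.ofFinite _
  have hN : (N.subgroupOf G).Normal := by
    constructor
    intro n hn' g
    exact hn g g.2 n hn'
  exact mult_dvd_degree (N.subgroupOf G) hN hη
    (isIrrCharacter_comp_equiv (subgroupOfEquivOfLe hNG) hθ) e d
    (by rw [inner_subgroupOf hNG]; exact he) he0 hd

theorem exists_irr_over {G N : Subgroup Γ} [Fintype N] (hNG : N ≤ G) {θ : N → ℂ}
    (hθ : IsIrrCharacter N θ) :
    ∃ χ : IrrCharacter G, classInner (fun n : N => (χ : G → ℂ) ⟨n, hNG n.2⟩) θ ≠ 0 := by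
  have : Fintype G := Fintype.ofFinite _
  have : Fintype (N.subgroupOf G) := Fintype.ofFinite _
  obtain ⟨χ, hχ⟩ := exists_irr_over₀ (N.subgroupOf G)
    (isIrrCharacter_comp_equiv (subgroupOfEquivOfLe hNG) hθ)
  exact ⟨χ, by rw [inner_subgroupOf hNG] at hχ; exact hχ⟩

theorem exists_inv_over (S : Subgroup Γ) (hsolv : Group.IsSolvable S) (G : Subgroup Γ)
    (hSG : S ≤ Subgroup.normalizer (G : Set Γ)) (hcop : (Nat.card G).Coprime (Nat.card S)) :
    ∀ (N : Subgroup Γ) [Fintype N] (hNG : N ≤ G), (∀ g ∈ G, ∀ n ∈ N, g * n * g⁻¹ ∈ N) →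
      S ≤ Subgroup.normalizer (N : Set Γ) → ∀ θ : IrrCharacter N,
      (∀ s ∈ S, InvUnder N s (θ : N → ℂ)) →
      ∃ χ : IrrCharacter G, (∀ s ∈ S, InvUnder G s (χ : G → ℂ)) ∧
        classInner (fun n : N => (χ : G → ℂ) ⟨n, hNG n.2⟩) (θ : N → ℂ) ≠ 0 := by
  refine solv_induction S hsolv (fun G => ∀ (N : Subgroup Γ) [Fintype N] (hNG : N ≤ G),
      (∀ g ∈ G, ∀ n ∈ N, g * n * g⁻¹ ∈ N) →
      S ≤ Subgroup.normalizer (N : Set Γ) → ∀ θ : IrrCharacter N,
      (∀ s ∈ S, InvUnder N s (θ : N → ℂ)) →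
      ∃ χ : IrrCharacter G, (∀ s ∈ S, InvUnder G s (χ : G → ℂ)) ∧
        classInner (fun n : N => (χ : G → ℂ) ⟨n, hNG n.2⟩) (θ : N → ℂ) ≠ 0) ?_ ?_ G hSG hcop
  · intro G hc N _ hNG _ _ θ _
    obtain ⟨χ, hχ⟩ := exists_irr_over hNG θ.2
    exact ⟨χ, fun s hs => ((centralizer_le_stabSub G _) (hc hs)).2, hχ⟩
  · intro G hSG hcop p K P hp hK hKS hPS hP hnT hSB ih N _ hNG hNn hSN θ hθ
    classical
    have : Fact p.Prime := ⟨hp⟩
    have hcopP : (Nat.card G).Coprime (Nat.card P) :=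
      Nat.Coprime.coprime_dvd_right (Subgroup.card_dvd_of_le hPS) hcop
    by_cases hpG : p ∣ Nat.card G
    · have hPbot : P = ⊥ := by
        obtain ⟨k, hk⟩ := IsPGroup.iff_card.1 hP
        rcases Nat.eq_zero_or_pos k with h0 | h0
        · rw [h0, pow_zero] at hk
          exact (Subgroup.card_eq_one).1 hk
        · exfalso
          have h1 : p ∣ Nat.card P := by rw [hk]; exact dvd_pow_self p h0.ne'
          have h2 := Nat.dvd_gcd hpG h1
          rw [Nat.coprime_iff_gcd_eq_one.1 hcopP] at h2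
          exact hp.one_lt.ne' (Nat.dvd_one.1 h2)
      have hBeq : G ⊓ Subgroup.centralizer ((K ⊔ P : Subgroup Γ) : Set Γ) = G := by
        rw [hPbot, sup_bot_eq]
        exact inf_eq_left.2 (le_centralizer_iff.1 hK)
      rw [hBeq] at ih
      exact ih N hNG hNn hSN θ hθ
    · set T : Subgroup Γ := K ⊔ P with hT
      set B : Subgroup Γ := G ⊓ Subgroup.centralizer (T : Set Γ) with hB
      set N' : Subgroup Γ := N ⊓ Subgroup.centralizer (T : Set Γ) with hN'
      have : Fintype B := Fintype.ofFinite _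
      have : Fintype N' := Fintype.ofFinite _
      have := finite_irrCharacter (G := N)
      have := Fintype.ofFinite (IrrCharacter N)
      have hBG : B ≤ G := inf_le_left
      have hN'N : N' ≤ N := inf_le_left
      have hKN : K ≤ Subgroup.centralizer (N : Set Γ) :=
        hK.trans (centralizer_le (by exact_mod_cast hNG))
      have hGlG := glaub_supp p G K P hK hP (hPS.trans hSG) hcopP B rfl hBG
      have hGlN := glaub_supp p N K P hKN hP (hPS.trans hSN)
        (Nat.Coprime.coprime_dvd_left (Subgroup.card_dvd_of_le hNG) hcopP) N' rfl hN'N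
      have hTS : T ≤ S := sup_le hKS hPS
      have hSN' : S ≤ Subgroup.normalizer (N' : Set Γ) := by
        apply le_normalizer_of_norm
        intro u hu b hb
        apply conj_mem_inf_centralizer _ _ hb
        · intro g hg
          exact (mem_normalizer_iff.1 (hSN hu) g).1 hg
        · intro t ht
          have := hnT u⁻¹ (S.inv_mem hu) t ht
          simpa using this
      have hθT : ∀ t ∈ T, InvUnder N t (θ : N → ℂ) := fun t ht => hθ t (hTS ht)
      obtain ⟨θ', hcθ⟩ := hGlN.exists_pcorr θ hθT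
      have hθ'S : ∀ s ∈ S, InvUnder N' s (θ' : N' → ℂ) := fun u hu =>
        hGlN.inv_down u (hSN hu) (hSN' hu) θ hθT (hθ u hu) θ' hcθ
      have hN'B : N' ≤ B := inf_le_inf_right _ hNG
      have hN'n : ∀ b ∈ B, ∀ n ∈ N', b * n * b⁻¹ ∈ N' := by
        intro b hb n hn
        refine mem_inf.2 ⟨hNn b (mem_inf.1 hb).1 n (mem_inf.1 hn).1, ?_⟩
        exact mul_mem (mul_mem (mem_inf.1 hb).2 (mem_inf.1 hn).2) (inv_mem (mem_inf.1 hb).2)
      obtain ⟨η, hηS, hηθ⟩ := ih N' hN'B hN'n hSN' θ' hθ'S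
      obtain ⟨χ, hχT, hcχ⟩ := hGlG.surj η
      have hχS : ∀ s ∈ S, InvUnder G s (χ : G → ℂ) := fun u hu =>
        hGlG.inv_up u (hSG hu) (hSB hu) (hnT u hu) χ hχT η hcχ (hηS u hu)
      refine ⟨χ, hχS, ?_⟩
      have hχc := isCharacter_of_isIrrCharacter χ.2
      obtain ⟨η₀, ε₁, hε₁, M₁⟩ := hGlG.data χ hχT
      have e0 := (M₁.pcorr_iff hε₁ η).1 hcχ
      subst e0
      obtain ⟨m, b, hm, hb, hmb⟩ := M₁.inner_res hBG hN'B hχc θ'
      have hb0 : b ≠ 0 := by
        intro h0
        rw [h0] at hb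
        exact hηθ (by rw [hb]; simp)
      obtain ⟨d, hd1, hd2, _⟩ := irr_degree_dvd η.2
      have hbd : b ∣ d := mult_dvd_degree' hN'B hN'n η.2 θ'.2 b d hb hb0 hd1
      have hpb : ¬ p ∣ b := fun h =>
        hpG (((h.trans hbd).trans hd2).trans (Subgroup.card_dvd_of_le hBG))
      have hm0 : (m : ZMod p) ≠ 0 := by
        rw [hmb]
        exact mul_ne_zero (sign_ne_zero_zmod p hε₁)
          (fun h => hpb ((ZMod.natCast_eq_zero_iff _ _).1 h))
      have hex_a : ∀ φ : IrrCharacter N, ∃ a : ℕ,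
          classInner (fun n : N => (χ : G → ℂ) ⟨n, hNG n.2⟩) (φ : N → ℂ) = a := fun φ =>
        isCharacter_classInner_nat (isCharacter_res hNG hχc) φ.2
      choose a ha using hex_a
      have hex_c : ∀ φ : IrrCharacter N, ∃ c : ℕ,
          classInner (fun n : N' => (φ : N → ℂ) ⟨n, hN'N n.2⟩) (θ' : N' → ℂ) = c := fun φ =>
        isCharacter_classInner_nat (isCharacter_res hN'N (isCharacter_of_isIrrCharacter φ.2)) θ'.2
      choose c hc using hex_c
      have hPN'c : P ≤ Subgroup.centralizer (N' : Set Γ) := by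
        apply le_centralizer_iff.1
        exact (inf_le_right : N' ≤ _).trans
          (centralizer_le (by exact_mod_cast (le_sup_right : P ≤ K ⊔ P)))
      obtain ⟨m', hm', hsum⟩ := inner_res_orbit (p := p) hNG hN'N hP (hPS.trans hSG)
        (hPS.trans hSN) hPN'c hχc (fun u hu => hχS u (hPS hu)) θ' a c ha hc
      have hmm : m' = m := by
        have : (m' : ℂ) = (m : ℂ) := by rw [← hm', ← hm]
        exact_mod_cast this
      rw [hmm] at hsum
      have hPT : ∀ φ : IrrCharacter N, (∀ u ∈ P, InvUnder N u (φ : N → ℂ)) →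
          ∀ u ∈ T, InvUnder N u (φ : N → ℂ) := by
        intro φ h
        have : T ≤ stabSub N (φ : N → ℂ) :=
          sup_le (hKN.trans (centralizer_le_stabSub N _)) (fun y hy => ⟨hSN (hPS hy), h y hy⟩)
        exact fun s hs => (this hs).2
      rw [Finset.sum_eq_single θ] at hsum
      · intro h0
        rw [ha θ] at h0
        have : a θ = 0 := by exact_mod_cast h0
        rw [this] at hsum
        apply hm0
        rw [hsum]; simp
      · intro φ hφ hne
        have hφP := (Finset.mem_filter.1 hφ).2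
        obtain ⟨φ', ε, hε, M⟩ := hGlN.data φ (hPT φ hφP)
        obtain ⟨c', hc', _, h2⟩ := M θ'
        have hcc : c φ = c' := by
          have : (c φ : ℂ) = (c' : ℂ) := by rw [← hc, ← hc']
          exact_mod_cast this
        have hne' : θ' ≠ φ' := by
          intro he
          apply hne
          exact hGlN.inj φ θ (hPT φ hφP) hθT θ' ((M.pcorr_iff hε θ').2 he) hcθ
        rw [hcc, h2 hne', mul_zero]
      · intro h
        exfalso
        apply h
        exact Finset.mem_filter.2 ⟨Finset.mem_univ _, fun u hu => hθ u (hPS hu)⟩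

end Cfsg.Agent.Lib.Helper77
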