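import Mathlib
import Cfsg.Agent.Lib.Helper30.Coprime

/-!
# Glauberman's lemma modulo a normal subgroup acting trivially
-/

set_option autoImplicit false

namespace Cfsg.Agent.Lib.Helper77

open Subgroup

section

variable {Y : Type*} [Group Y] {X : Type*} [MulAction Y X]

/-- the action of `Y ⧸ N` on `X` when `N` acts trivially. -/
@[reducible] noncomputable def quotAct (N : Subgroup Y) [N.Normal] (hN : ∀ n ∈ N, ∀ x : X, n • x = x) :
    MulAction (Y ⧸ N) X :=
  MulAction.compHom X (QuotientGroup.lift N (MulAction.toPermHom Y X) (by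
    intro n hn
    ext x
    exact hN n hn x))

theorem quotAct_mk (N : Subgroup Y) [N.Normal] (hN : ∀ n ∈ N, ∀ x : X, n • x = x) (y : Y) (x : X) :
    (quotAct N hN).smul (QuotientGroup.mk' N y) x = y • x := rfl

theorem isSolvable_map_mk (N K : Subgroup Y) [N.Normal]
    (h : Group.IsSolvable (K ⧸ N.subgroupOf K)) : Group.IsSolvable (K.map (QuotientGroup.mk' N)) := by
  let f : K →* K.map (QuotientGroup.mk' N) := (QuotientGroup.mk' N).subgroupMap K
  have hf : Function.Surjective f := (QuotientGroup.mk' N).subgroupMap_surjective K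
  have hker : N.subgroupOf K ≤ f.ker := by
    intro k hk
    rw [MonoidHom.mem_ker]
    apply Subtype.ext
    show QuotientGroup.mk' N (k : Y) = 1
    exact (QuotientGroup.eq_one_iff _).2 (mem_subgroupOf.1 hk)
  exact Group.isSolvable_of_surjective (f := QuotientGroup.lift (N.subgroupOf K) f hker) (by
    intro z
    obtain ⟨k, rfl⟩ := hf z
    exact ⟨QuotientGroup.mk k, rfl⟩)

variable [Finite Y]

theorem rel_glauberman_aux (N K A : Subgroup Y) [N.Normal]
    (hAK : A ≤ normalizer (K : Set Y)) (hcop : (Nat.card A).Coprime (N.relIndex K))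
    (hsolv : Group.IsSolvable A ∨ Group.IsSolvable (K ⧸ N.subgroupOf K)) :
    A.map (QuotientGroup.mk' N) ≤ normalizer ((K.map (QuotientGroup.mk' N) : Subgroup (Y ⧸ N)) : Set (Y ⧸ N)) ∧
    (Nat.card (A.map (QuotientGroup.mk' N))).Coprime (Nat.card (K.map (QuotientGroup.mk' N))) ∧
    (Group.IsSolvable (A.map (QuotientGroup.mk' N)) ∨ Group.IsSolvable (K.map (QuotientGroup.mk' N))) := by
  refine ⟨?_, ?_, ?_⟩
  · exact (map_mono hAK).trans (le_normalizer_map _)
  · have h1 : Nat.card (K.map (QuotientGroup.mk' N)) = N.relIndex K := by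
      rw [← relIndex_ker, QuotientGroup.ker_mk']
    rw [h1]
    exact Nat.Coprime.coprime_dvd_left (card_map_dvd _ _) hcop
  · rcases hsolv with h | h
    · left
      exact Group.isSolvable_of_surjective ((QuotientGroup.mk' N).subgroupMap_surjective A)
    · right
      exact isSolvable_map_mk N K h

/-- Glauberman's lemma (existence) modulo `N`. -/
theorem rel_glauberman_exists (N K A : Subgroup Y) [N.Normal] (hN : ∀ n ∈ N, ∀ x : X, n • x = x)
    (hAK : A ≤ normalizer (K : Set Y)) (hcop : (Nat.card A).Coprime (N.relIndex K))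
    (hsolv : Group.IsSolvable A ∨ Group.IsSolvable (K ⧸ N.subgroupOf K)) (x : X)
    (hx : ∀ a ∈ A, ∃ k ∈ K, a • x = k • x) :
    ∃ k ∈ K, ∀ a ∈ A, a • k • x = k • x := by
  obtain ⟨h1, h2, h3⟩ := rel_glauberman_aux N K A hAK hcop hsolv
  let _ : MulAction (Y ⧸ N) X := quotAct N hN
  obtain ⟨k', hk', h⟩ := Cfsg.Agent.Lib.Helper30.glauberman_exists (G := Y ⧸ N) (X := X) h1 h2 h3 x (by
    rintro _ ⟨a, ha, rfl⟩
    obtain ⟨k, hk, hak⟩ := hx a ha
    exact ⟨QuotientGroup.mk' N k, mem_map_of_mem _ hk, hak⟩)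
  obtain ⟨k, hk, rfl⟩ := hk'
  exact ⟨k, hk, fun a ha => h _ (mem_map_of_mem _ ha)⟩

/-- Glauberman's lemma (uniqueness) modulo `N`. -/
theorem rel_glauberman_unique (N K A : Subgroup Y) [N.Normal] (hN : ∀ n ∈ N, ∀ x : X, n • x = x)
    (hAK : A ≤ normalizer (K : Set Y)) (hcop : (Nat.card A).Coprime (N.relIndex K))
    (hsolv : Group.IsSolvable A ∨ Group.IsSolvable (K ⧸ N.subgroupOf K)) (x : X)
    (hx : ∀ a ∈ A, a • x = x) {k : Y} (hk : k ∈ K) (hkx : ∀ a ∈ A, a • k • x = k • x) :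
    ∃ c ∈ K, (∀ a ∈ A, a * c * a⁻¹ * c⁻¹ ∈ N) ∧ c • x = k • x := by
  obtain ⟨h1, h2, h3⟩ := rel_glauberman_aux N K A hAK hcop hsolv
  let _ : MulAction (Y ⧸ N) X := quotAct N hN
  obtain ⟨c', hc', h⟩ := Cfsg.Agent.Lib.Helper30.glauberman_unique (G := Y ⧸ N) (X := X) h1 h2 h3 x (by
    rintro _ ⟨a, ha, rfl⟩
    exact hx a ha) (k := QuotientGroup.mk' N k) (mem_map_of_mem _ hk) (by
    rintro _ ⟨a, ha, rfl⟩
    exact hkx a ha)
  obtain ⟨⟨c, hc, rfl⟩, hcen⟩ := mem_inf.1 hc'
  refine ⟨c, hc, ?_, h⟩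
  intro a ha
  have h4 := (mem_centralizer_iff.1 hcen) (QuotientGroup.mk' N a) (mem_map_of_mem _ ha)
  rw [← (QuotientGroup.eq_one_iff (N := N) _)]
  have h5 : QuotientGroup.mk' N (a * c * a⁻¹ * c⁻¹) = 1 := by
    rw [map_mul, map_mul, map_mul, h4, map_inv, map_inv]
    group
  exact h5

end

end Cfsg.Agent.Lib.Helper77
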