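import Mathlib
import Cfsg.Agent.Lib.Helper77.RelGlaub
import Cfsg.Agent.Lib.Helper77.GlaubOver2

/-!
# Invariant constituents on a normal subgroup (Isaacs 13.27)
-/

set_option autoImplicit false
set_option linter.unusedSectionVars false

namespace Cfsg.Agent.Lib.Helper77

open Subgroup Cfsg Cfsg.Agent.Lib.Helper20 Cfsg.Agent.Lib.Helper19 Cfsg.Agent.Lib.Helper79
  Cfsg.Agent.Lib.Helper5

variable {Γ : Type*} [Group Γ] [Finite Γ]

/-- Clifford: the irreducible constituents of `χ|_N` are `G`-conjugate (ambient form). -/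
theorem clifford_trans {G N : Subgroup Γ} [Fintype N] (hNG : N ≤ G)
    (hGN : G ≤ normalizer (N : Set Γ)) {χ : G → ℂ} (hχ : IsIrrCharacter G χ) {θ θ' : N → ℂ}
    (hθ : IsIrrCharacter N θ) (hθ' : IsIrrCharacter N θ')
    (h : classInner (fun n : N => χ ⟨n, hNG n.2⟩) θ ≠ 0)
    (h' : classInner (fun n : N => χ ⟨n, hNG n.2⟩) θ' ≠ 0) :
    ∃ g, ∃ hg : g ∈ G, θ' = θ ∘ cjAut N g (hGN hg) := by
  have : Fintype G := Fintype.ofFinite _
  have : Fintype (N.subgroupOf G) := Fintype.ofFinite _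
  have hN : (N.subgroupOf G).Normal := by
    constructor
    intro n hn' g
    exact (mem_normalizer_iff.1 (hGN g.2) _).1 hn'
  by_contra hcon
  apply h'
  rw [← inner_subgroupOf hNG]
  apply clifford_inner_zero hN hχ (isIrrCharacter_comp_equiv (subgroupOfEquivOfLe hNG) hθ)
    (by rw [inner_subgroupOf hNG]; exact h) (isIrrCharacter_comp_equiv (subgroupOfEquivOfLe hNG) hθ')
  intro g he
  apply hcon
  refine ⟨g, g.2, ?_⟩
  funext n
  have h1 := congrFun he ((subgroupOfEquivOfLe hNG).symm n)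
  rw [Function.comp_apply, MulEquiv.apply_symm_apply] at h1
  rw [h1]
  rfl

/-- inner automorphisms fix characters -/
theorem comp_cjAut_self {N : Subgroup Γ} {θ : N → ℂ} (hθ : IsCharacter N θ) (n : Γ) (hn : n ∈ N) :
    θ ∘ cjAut N n (le_normalizer hn) = θ := by
  funext x
  have h1 : cjAut N n (le_normalizer hn) x = (⟨n, hn⟩ : N) * x * (⟨n, hn⟩ : N)⁻¹ :=
    Subtype.ext (by rw [cjAut_coe]; rfl)
  rw [Function.comp_apply, h1]
  exact Cfsg.Agent.Lib.Helper82.isChar_conj_eq hθ _ _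

section Main

variable (G S N : Subgroup Γ) [Fintype N] (hNG : N ≤ G) (hGN : G ≤ normalizer (N : Set Γ))
  (hSG : S ≤ normalizer (G : Set Γ)) (hSN : S ≤ normalizer (N : Set Γ))
  (hcop : (Nat.card S).Coprime (N.relIndex G)) [hNn : (N.subgroupOf G).Normal]
  (hsolv : Group.IsSolvable S ∨ Group.IsSolvable (G ⧸ N.subgroupOf G))

include hNG hGN hSG hSN hcop hsolv

theorem cliffInv_aux :
    (S.subgroupOf (normalizer (N : Set Γ))) ≤
      normalizer ((G.subgroupOf (normalizer (N : Set Γ)) : Subgroup (normalizer (N : Set Γ))) :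
        Set (normalizer (N : Set Γ))) ∧
    (Nat.card (S.subgroupOf (normalizer (N : Set Γ)))).Coprime
      ((N.subgroupOf (normalizer (N : Set Γ))).relIndex (G.subgroupOf (normalizer (N : Set Γ)))) ∧
    (Group.IsSolvable (S.subgroupOf (normalizer (N : Set Γ))) ∨
      Group.IsSolvable ((G.subgroupOf (normalizer (N : Set Γ))) ⧸
        (N.subgroupOf (normalizer (N : Set Γ))).subgroupOf (G.subgroupOf (normalizer (N : Set Γ))))) := by
  refine ⟨?_, ?_, ?_⟩
  · intro s hs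
    rw [mem_normalizer_iff]
    intro g
    exact mem_normalizer_iff.1 (hSG (mem_subgroupOf.1 hs)) g
  · rw [Cfsg.Agent.Lib.Helper30.card_subgroupOf hSN, relIndex_subgroupOf hGN]
    exact hcop
  · rcases hsolv with h | h
    · left
      exact Group.isSolvable_of_isSolvable_injective (f := (subgroupOfEquivOfLe hSN).toMonoidHom)
        (subgroupOfEquivOfLe hSN).injective
    · right
      let e := subgroupOfEquivOfLe hGN
      let f : G →* (G.subgroupOf (normalizer (N : Set Γ))) ⧸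
        (N.subgroupOf (normalizer (N : Set Γ))).subgroupOf (G.subgroupOf (normalizer (N : Set Γ))) :=
        (QuotientGroup.mk' _).comp e.symm.toMonoidHom
      have hf : Function.Surjective f :=
        (QuotientGroup.mk'_surjective _).comp e.symm.surjective
      have hker : N.subgroupOf G ≤ f.ker := by
        intro g hg
        rw [MonoidHom.mem_ker]
        apply (QuotientGroup.eq_one_iff _).2
        exact hg
      exact Group.isSolvable_of_surjective (f := QuotientGroup.lift (N.subgroupOf G) f hker) (by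
        intro z
        obtain ⟨k, rfl⟩ := hf z
        exact ⟨QuotientGroup.mk k, rfl⟩)

/-- **Isaacs 13.27**: an `S`-invariant irreducible character has an `S`-invariant constituent
on `N`. -/
theorem exists_inv_under {χ : G → ℂ} (hχ : IsIrrCharacter G χ) (hinv : ∀ s ∈ S, InvUnder G s χ) :
    ∃ θ : IrrCharacter N, classInner (fun n : N => χ ⟨n, hNG n.2⟩) (θ : N → ℂ) ≠ 0 ∧
      ∀ s ∈ S, InvUnder N s (θ : N → ℂ) := by
  obtain ⟨h1, h2, h3⟩ := cliffInv_aux G S N hNG hGN hSG hSN hcop hsolv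
  let _ := irrAct N (normalizer (N : Set Γ)) le_rfl
  have hχc := isCharacter_of_isIrrCharacter hχ
  have hres : IsCharacter N (fun n : N => χ ⟨n, hNG n.2⟩) := isCharacter_res hNG hχc
  obtain ⟨θ₀, hθ₀⟩ := Cfsg.Agent.Lib.Helper82.exists_irr_constituent hres
    (Cfsg.Agent.Lib.Helper79.IsIrrCharacter.one_ne_zero hχ)
  have htriv : ∀ n ∈ N.subgroupOf (normalizer (N : Set Γ)), ∀ φ : IrrCharacter N, n • φ = φ := by
    intro n hn φ
    apply Subtype.ext
    exact comp_cjAut_self (isCharacter_of_isIrrCharacter φ.2) _ (N.inv_mem (mem_subgroupOf.1 hn))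
  -- constituents are permuted by elements fixing `χ`
  have hmove : ∀ (u : normalizer (N : Set Γ)) (hu : (u : Γ) ∈ normalizer (G : Set Γ)),
      InvUnder G (u : Γ)⁻¹ χ → ∀ φ : IrrCharacter N,
      classInner (fun n : N => χ ⟨n, hNG n.2⟩) ((u • φ : IrrCharacter N) : N → ℂ) =
        classInner (fun n : N => χ ⟨n, hNG n.2⟩) (φ : N → ℂ) := by
    intro u hu hinvu φ
    have e := inner_cj hNG ((u : Γ)⁻¹) (inv_mem hu) (inv_mem u.2) χ (φ : N → ℂ)
    rw [(comp_cjAut_eq_iff _ (inv_mem hu) _).2 hinvu] at e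
    exact e
  obtain ⟨k, hk, hfix⟩ := rel_glauberman_exists (N.subgroupOf (normalizer (N : Set Γ)))
    (G.subgroupOf (normalizer (N : Set Γ))) (S.subgroupOf (normalizer (N : Set Γ))) htriv h1 h2 h3 θ₀ (by
      intro a ha
      have haS : (a : Γ) ∈ S := mem_subgroupOf.1 ha
      have h4 : classInner (fun n : N => χ ⟨n, hNG n.2⟩) ((a • θ₀ : IrrCharacter N) : N → ℂ) ≠ 0 := by
        rw [hmove a (hSG haS) (hinv _ (S.inv_mem haS))]
        exact hθ₀
      obtain ⟨g, hg, he⟩ := clifford_trans hNG hGN hχ θ₀.2 (a • θ₀ : IrrCharacter N).2 hθ₀ h4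
      refine ⟨⟨g⁻¹, hGN (G.inv_mem hg)⟩, mem_subgroupOf.2 (G.inv_mem hg), ?_⟩
      apply Subtype.ext
      rw [he]
      show _ = (θ₀ : N → ℂ) ∘ cjAut N ((g⁻¹)⁻¹) _
      congr 2
      simp)
  have hkG : (k : Γ) ∈ G := mem_subgroupOf.1 hk
  refine ⟨k • θ₀, ?_, ?_⟩
  · rw [hmove k (le_normalizer hkG)]
    · exact hθ₀
    · have := comp_cjAut_self hχc _ (G.inv_mem hkG)
      exact (comp_cjAut_eq_iff _ _ _).1 this
  · have h5 : (k • θ₀ : IrrCharacter N) ∈
        @MulAction.fixedPoints S (IrrCharacter N) _ (irrAct N S hSN) := by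
      intro s
      exact hfix ⟨s, hSN s.2⟩ (mem_subgroupOf.2 s.2)
    exact (mem_fixedPoints_irrAct N S hSN _).1 h5

/-- uniqueness up to `C_{G/N}(S)`-conjugacy -/
theorem inv_under_conj {χ : G → ℂ} (hχ : IsIrrCharacter G χ) (θ θ' : IrrCharacter N)
    (hθ : classInner (fun n : N => χ ⟨n, hNG n.2⟩) (θ : N → ℂ) ≠ 0)
    (hθ' : classInner (fun n : N => χ ⟨n, hNG n.2⟩) (θ' : N → ℂ) ≠ 0)
    (hinv : ∀ s ∈ S, InvUnder N s (θ : N → ℂ)) (hinv' : ∀ s ∈ S, InvUnder N s (θ' : N → ℂ)) :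
    ∃ c, ∃ hc : c ∈ G, (∀ s ∈ S, s * c * s⁻¹ * c⁻¹ ∈ N) ∧
      (θ' : N → ℂ) = (θ : N → ℂ) ∘ cjAut N c (hGN hc) := by
  obtain ⟨h1, h2, h3⟩ := cliffInv_aux G S N hNG hGN hSG hSN hcop hsolv
  let _ := irrAct N (normalizer (N : Set Γ)) le_rfl
  have htriv : ∀ n ∈ N.subgroupOf (normalizer (N : Set Γ)), ∀ φ : IrrCharacter N, n • φ = φ := by
    intro n hn φ
    apply Subtype.ext
    exact comp_cjAut_self (isCharacter_of_isIrrCharacter φ.2) _ (N.inv_mem (mem_subgroupOf.1 hn))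
  obtain ⟨g, hg, he⟩ := clifford_trans hNG hGN hχ θ.2 θ'.2 hθ hθ'
  have hfixed : ∀ φ : IrrCharacter N, (∀ s ∈ S, InvUnder N s (φ : N → ℂ)) →
      ∀ a ∈ S.subgroupOf (normalizer (N : Set Γ)), a • φ = φ := by
    intro φ hφ a ha
    have := (mem_fixedPoints_irrAct N S hSN φ).2 hφ ⟨a, mem_subgroupOf.1 ha⟩
    exact this
  have hk : ((⟨g⁻¹, hGN (G.inv_mem hg)⟩ : normalizer (N : Set Γ)) • θ : IrrCharacter N) = θ' := by
    apply Subtype.ext
    rw [he]
    show (θ : N → ℂ) ∘ cjAut N ((g⁻¹)⁻¹) _ = _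
    congr 2
    simp
  obtain ⟨c, hc, hcen, hcx⟩ := rel_glauberman_unique (N.subgroupOf (normalizer (N : Set Γ)))
    (G.subgroupOf (normalizer (N : Set Γ))) (S.subgroupOf (normalizer (N : Set Γ))) htriv h1 h2 h3 θ
    (hfixed θ hinv) (k := ⟨g⁻¹, hGN (G.inv_mem hg)⟩) (mem_subgroupOf.2 (G.inv_mem hg)) (by
      rw [hk]
      exact hfixed θ' hinv')
  have hcG : (c : Γ) ∈ G := mem_subgroupOf.1 hc
  refine ⟨(c : Γ)⁻¹, G.inv_mem hcG, ?_, ?_⟩
  · intro s hs
    have h4 : (s * (c : Γ) * s⁻¹ * (c : Γ)⁻¹) ∈ N := hcen ⟨s, hSN hs⟩ (mem_subgroupOf.2 hs)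
    -- `s c⁻¹ s⁻¹ c = (s c s⁻¹)⁻¹ c = c⁻¹ (s c s⁻¹ c⁻¹)⁻¹ c`
    have h5 : s * (c : Γ)⁻¹ * s⁻¹ * ((c : Γ)⁻¹)⁻¹ =
        (c : Γ)⁻¹ * (s * (c : Γ) * s⁻¹ * (c : Γ)⁻¹)⁻¹ * ((c : Γ)⁻¹)⁻¹ := by group
    rw [h5]
    exact (mem_normalizer_iff.1 (hGN (G.inv_mem hcG)) _).1 (N.inv_mem h4)
  · rw [← hk, ← hcx]
    rfl

end Main

end Cfsg.Agent.Lib.Helper77
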