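import Mathlib
import Cfsg.Agent.Lib.Helper77.CliffInv
import Cfsg.Agent.Lib.Helper83.CliffCorr

/-!
# The Clifford correspondence as a relation (no induced characters in the statements)
-/

set_option autoImplicit false
set_option linter.unusedSectionVars false

namespace Cfsg.Agent.Lib.Helper77

open Subgroup Cfsg Cfsg.Agent.Lib.Helper20 Cfsg.Agent.Lib.Helper19 Cfsg.Agent.Lib.Helper79
  Cfsg.Agent.Lib.Helper5

section TypeLevel

variable {X : Type*} [Group X] [Fintype X] (N : Subgroup X) [hN : N.Normal] [Fintype N]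
  (θ : N → ℂ) (hθ : IsIrrCharacter N θ) (T : Subgroup X) [Fintype T]
  (hT : ∀ g : X, g ∈ T ↔ ∀ n : N, θ ⟨g * n * g⁻¹, hN.conj_mem (n : X) n.2 g⟩ = θ n) (hNT : N ≤ T)

theorem ind_over_iff (ψ : T → ℂ) (hψ : IsIrrCharacter T ψ) :
    classInner (indFun (N.subgroupOf T)
      (fun x => θ ⟨((x : T) : X), Subgroup.mem_subgroupOf.mp x.2⟩)) ψ ≠ 0 ↔
      classInner (fun n : N => ψ ⟨n, hNT n.2⟩) θ ≠ 0 := by
  have : Fintype (N.subgroupOf T) := Fintype.ofFinite _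
  rw [frobenius_reciprocity (N.subgroupOf T) _ ψ
    (isClassFunction_of_isCharacter (isCharacter_of_isIrrCharacter hψ)), ← classInner_conj_symm]
  have h1 : classInner (fun h : N.subgroupOf T => ψ h)
      (fun x => θ ⟨((x : T) : X), Subgroup.mem_subgroupOf.mp x.2⟩) =
      classInner (fun n : N => ψ ⟨n, hNT n.2⟩) θ := by
    rw [← classInner_comp_equiv (subgroupOfEquivOfLe hNT)]
    rfl
  rw [h1]
  simp

include hθ hT in
theorem cliff_rel_down (χ : X → ℂ) (hχ : IsIrrCharacter X χ)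
    (hcon : classInner (fun n : N => χ n) θ ≠ 0) :
    ∃ ψ : T → ℂ, IsIrrCharacter T ψ ∧ classInner (fun n : N => ψ ⟨n, hNT n.2⟩) θ ≠ 0 ∧
      classInner (fun t : T => χ t) ψ = 1 ∧
      ∀ ψ' : T → ℂ, IsIrrCharacter T ψ' → classInner (fun n : N => ψ' ⟨n, hNT n.2⟩) θ ≠ 0 →
        classInner (fun t : T => χ t) ψ' ≠ 0 → ψ' = ψ := by
  have := finite_irrCharacter (G := T)
  have := Fintype.ofFinite (IrrCharacter T)
  have hχcl := isClassFunction_of_isCharacter (isCharacter_of_isIrrCharacter hχ)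
  obtain ⟨ψ, h1, h2, h3⟩ := Cfsg.Agent.S0854.result N θ hθ T hT hNT χ hχ hcon
  obtain ⟨-, c2, -⟩ := Cfsg.Agent.Lib.Helper83.clifford_corr N θ hθ T hT hNT
  have hov : classInner (fun n : N => ψ ⟨n, hNT n.2⟩) θ ≠ 0 := by rw [h3]; exact hcon
  have hfr : ∀ ψ' : T → ℂ, classInner (fun t : T => χ t) ψ' =
      (starRingEnd ℂ) (classInner (indFun T ψ') χ) := by
    intro ψ'
    rw [frobenius_reciprocity T ψ' χ hχcl, classInner_conj_symm]
  refine ⟨ψ, h1, hov, ?_, ?_⟩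
  · rw [hfr, h2, classInner_irr_self hχ]; simp
  · intro ψ' h1' hov' hne
    by_contra hcon'
    apply hne
    rw [hfr, ← h2]
    have := c2 ⟨ψ', h1'⟩ ⟨ψ, h1⟩ ((ind_over_iff N θ T hNT ψ' h1').2 hov')
      ((ind_over_iff N θ T hNT ψ h1).2 hov) (fun h => hcon' (congrArg Subtype.val h).symm)
    rw [this]; simp

include hθ hT in
theorem cliff_rel_up (ψ : T → ℂ) (hψ : IsIrrCharacter T ψ)
    (hov : classInner (fun n : N => ψ ⟨n, hNT n.2⟩) θ ≠ 0) :
    ∃ χ : X → ℂ, IsIrrCharacter X χ ∧ classInner (fun t : T => χ t) ψ = 1 ∧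
      ∀ χ' : X → ℂ, IsIrrCharacter X χ' → classInner (fun t : T => χ' t) ψ ≠ 0 → χ' = χ := by
  have := finite_irrCharacter (G := T)
  have := Fintype.ofFinite (IrrCharacter T)
  obtain ⟨c1, -, -⟩ := Cfsg.Agent.Lib.Helper83.clifford_corr N θ hθ T hT hNT
  have hirr := c1 ⟨ψ, hψ⟩ ((ind_over_iff N θ T hNT ψ hψ).2 hov)
  have hfr : ∀ χ' : X → ℂ, IsIrrCharacter X χ' → classInner (fun t : T => χ' t) ψ =
      (starRingEnd ℂ) (classInner (indFun T ψ) χ') := by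
    intro χ' hχ'
    rw [frobenius_reciprocity T ψ χ'
      (isClassFunction_of_isCharacter (isCharacter_of_isIrrCharacter hχ')), classInner_conj_symm]
  refine ⟨indFun T ψ, hirr, ?_, ?_⟩
  · rw [hfr _ hirr, classInner_irr_self hirr]; simp
  · intro χ' hχ' hne
    by_contra hcon
    apply hne
    rw [hfr _ hχ', classInner_irr_ne hirr hχ' (fun h => hcon h.symm)]; simp

end TypeLevel

section Ambient

variable {Γ : Type*} [Group Γ] [Finite Γ] {X Q T : Subgroup Γ} [Fintype Q] [Fintype T]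
  (hQX : Q ≤ X) (hXQ : X ≤ normalizer (Q : Set Γ)) {θ : Q → ℂ} (hθ : IsIrrCharacter Q θ)
  (hT : T = X ⊓ stabSub Q θ) (hQT : Q ≤ T) (hTX : T ≤ X)

theorem normal_subgroupOf_of_le_normalizer {A B : Subgroup Γ} (h : B ≤ normalizer (A : Set Γ)) :
    (A.subgroupOf B).Normal := by
  constructor
  intro n hn g
  exact (mem_normalizer_iff.1 (h g.2) _).1 hn

include hT hXQ in
theorem mem_subgroupOf_stab_iff (hN : (Q.subgroupOf X).Normal) (g : X) :
    g ∈ T.subgroupOf X ↔ ∀ n : Q.subgroupOf X,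
      (θ ∘ subgroupOfEquivOfLe hQX) ⟨g * n * g⁻¹, hN.conj_mem (n : X) n.2 g⟩ =
        (θ ∘ subgroupOfEquivOfLe hQX) n := by
  rw [mem_subgroupOf, hT, mem_inf, mem_stabSub]
  constructor
  · rintro ⟨-, -, h⟩ n
    exact h _ _ rfl
  · intro h
    refine ⟨g.2, hXQ g.2, ?_⟩
    intro q q' hq
    have := h ⟨⟨q, hQX q.2⟩, mem_subgroupOf.2 q.2⟩
    have e1 : q' = subgroupOfEquivOfLe hQX ⟨g * (⟨⟨q, hQX q.2⟩, mem_subgroupOf.2 q.2⟩ :
        Q.subgroupOf X) * g⁻¹, hN.conj_mem _ (mem_subgroupOf.2 q.2) g⟩ := Subtype.ext hq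
    rw [e1]
    exact this

include hθ hT hXQ in
/-- Clifford correspondence, downwards (ambient, relation form). -/
theorem cliffA_down {χ : X → ℂ} (hχ : IsIrrCharacter X χ)
    (hcon : classInner (fun n : Q => χ ⟨n, hQX n.2⟩) θ ≠ 0) :
    ∃ ψ : IrrCharacter T, classInner (fun n : Q => (ψ : T → ℂ) ⟨n, hQT n.2⟩) θ ≠ 0 ∧
      classInner (fun t : T => χ ⟨t, hTX t.2⟩) (ψ : T → ℂ) = 1 ∧
      ∀ ψ' : IrrCharacter T, classInner (fun n : Q => (ψ' : T → ℂ) ⟨n, hQT n.2⟩) θ ≠ 0 →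
        classInner (fun t : T => χ ⟨t, hTX t.2⟩) (ψ' : T → ℂ) ≠ 0 → ψ' = ψ := by
  have : Fintype X := Fintype.ofFinite _
  have : Fintype (Q.subgroupOf X) := Fintype.ofFinite _
  have : Fintype (T.subgroupOf X) := Fintype.ofFinite _
  have hN : (Q.subgroupOf X).Normal := normal_subgroupOf_of_le_normalizer hXQ
  have hNT : Q.subgroupOf X ≤ T.subgroupOf X := fun x hx => mem_subgroupOf.2 (hQT (mem_subgroupOf.1 hx))
  have ea : ∀ ψ : T → ℂ, classInner (fun n : Q.subgroupOf X =>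
      (ψ ∘ subgroupOfEquivOfLe hTX) ⟨n, hNT n.2⟩) (θ ∘ subgroupOfEquivOfLe hQX) =
      classInner (fun n : Q => ψ ⟨n, hQT n.2⟩) θ := by
    intro ψ
    rw [← classInner_comp_equiv (subgroupOfEquivOfLe hQX)]
    rfl
  obtain ⟨ψ', h1, h2, h3, h4⟩ := cliff_rel_down (Q.subgroupOf X) (θ ∘ subgroupOfEquivOfLe hQX)
    (isIrrCharacter_comp_equiv _ hθ) (T.subgroupOf X) (mem_subgroupOf_stab_iff hQX hXQ hT hN) hNT
    χ hχ (by rw [inner_subgroupOf hQX]; exact hcon)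
  have e0 : ψ' = (ψ' ∘ (subgroupOfEquivOfLe hTX).symm) ∘ subgroupOfEquivOfLe hTX := by
    funext x; simp
  refine ⟨⟨ψ' ∘ (subgroupOfEquivOfLe hTX).symm, isIrrCharacter_comp_equiv _ h1⟩, ?_, ?_, ?_⟩
  · rw [e0, ea] at h2; exact h2
  · rw [e0, inner_subgroupOf hTX] at h3; exact h3
  · intro ψ'' h5 h6
    have := h4 ((ψ'' : T → ℂ) ∘ subgroupOfEquivOfLe hTX) (isIrrCharacter_comp_equiv _ ψ''.2)
      (by rw [ea]; exact h5) (by rw [inner_subgroupOf hTX]; exact h6)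
    apply Subtype.ext
    show (ψ'' : T → ℂ) = ψ' ∘ (subgroupOfEquivOfLe hTX).symm
    rw [← this]
    funext x; simp

include hθ hT hXQ hQX in
/-- Clifford correspondence, upwards (ambient, relation form). -/
theorem cliffA_up {ψ : T → ℂ} (hψ : IsIrrCharacter T ψ)
    (hov : classInner (fun n : Q => ψ ⟨n, hQT n.2⟩) θ ≠ 0) :
    ∃ χ : IrrCharacter X, classInner (fun t : T => (χ : X → ℂ) ⟨t, hTX t.2⟩) ψ = 1 ∧
      ∀ χ' : IrrCharacter X, classInner (fun t : T => (χ' : X → ℂ) ⟨t, hTX t.2⟩) ψ ≠ 0 →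
        χ' = χ := by
  have : Fintype X := Fintype.ofFinite _
  have : Fintype (Q.subgroupOf X) := Fintype.ofFinite _
  have : Fintype (T.subgroupOf X) := Fintype.ofFinite _
  have hN : (Q.subgroupOf X).Normal := normal_subgroupOf_of_le_normalizer hXQ
  have hNT : Q.subgroupOf X ≤ T.subgroupOf X := fun x hx => mem_subgroupOf.2 (hQT (mem_subgroupOf.1 hx))
  have ea : ∀ ψ : T → ℂ, classInner (fun n : Q.subgroupOf X =>
      (ψ ∘ subgroupOfEquivOfLe hTX) ⟨n, hNT n.2⟩) (θ ∘ subgroupOfEquivOfLe hQX) =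
      classInner (fun n : Q => ψ ⟨n, hQT n.2⟩) θ := by
    intro ψ
    rw [← classInner_comp_equiv (subgroupOfEquivOfLe hQX)]
    rfl
  obtain ⟨χ, h1, h2, h3⟩ := cliff_rel_up (Q.subgroupOf X) (θ ∘ subgroupOfEquivOfLe hQX)
    (isIrrCharacter_comp_equiv _ hθ) (T.subgroupOf X) (mem_subgroupOf_stab_iff hQX hXQ hT hN) hNT
    (ψ ∘ subgroupOfEquivOfLe hTX) (isIrrCharacter_comp_equiv _ hψ) (by rw [ea]; exact hov)
  refine ⟨⟨χ, h1⟩, ?_, ?_⟩
  · rw [inner_subgroupOf hTX] at h2; exact h2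
  · intro χ' h4
    exact Subtype.ext (h3 χ' χ'.2 (by rw [inner_subgroupOf hTX]; exact h4))

/-- constituents of constituents are constituents -/
theorem inner_res_ne_zero_trans {A B D : Subgroup Γ} [Fintype B] [Fintype D] (hBA : B ≤ A)
    (hDB : D ≤ B) {χ : A → ℂ} (hχ : IsCharacter A χ) (η : IrrCharacter B) {γ : D → ℂ}
    (hγ : IsIrrCharacter D γ) (h1 : classInner (fun b : B => χ ⟨b, hBA b.2⟩) (η : B → ℂ) ≠ 0)
    (h2 : classInner (fun d : D => (η : B → ℂ) ⟨d, hDB d.2⟩) γ ≠ 0) :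
    classInner (fun d : D => χ ⟨d, (hDB.trans hBA) d.2⟩) γ ≠ 0 := by
  classical
  have := finite_irrCharacter (G := B)
  have := Fintype.ofFinite (IrrCharacter B)
  have ha : ∀ η' : IrrCharacter B, ∃ a : ℕ,
      classInner (fun b : B => χ ⟨b, hBA b.2⟩) (η' : B → ℂ) = a := fun η' =>
    isCharacter_classInner_nat (isCharacter_res hBA hχ) η'.2
  have hb : ∀ η' : IrrCharacter B, ∃ b : ℕ,
      classInner (fun d : D => (η' : B → ℂ) ⟨d, hDB d.2⟩) γ = b := fun η' =>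
    isCharacter_classInner_nat (isCharacter_res hDB (isCharacter_of_isIrrCharacter η'.2)) hγ
  choose a ha using ha
  choose b hb using hb
  rw [inner_res_expand hBA hDB hχ]
  simp only [ha, hb]
  rw [ha] at h1
  rw [hb] at h2
  have h3 : 0 < ∑ η' : IrrCharacter B, a η' * b η' := by
    apply Finset.sum_pos'
    · intro i _; exact Nat.zero_le _
    · exact ⟨η, Finset.mem_univ _, Nat.mul_pos (Nat.pos_of_ne_zero (by exact_mod_cast h1))
        (Nat.pos_of_ne_zero (by exact_mod_cast h2))⟩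
  have h4 : (∑ η' : IrrCharacter B, (a η' : ℂ) * (b η' : ℂ)) =
      ((∑ η' : IrrCharacter B, a η' * b η' : ℕ) : ℂ) := by push_cast; rfl
  rw [h4]
  exact_mod_cast h3.ne'

end Ambient

end Cfsg.Agent.Lib.Helper77
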