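import Mathlib
import Cfsg.Agent.Lib.Helper77.GlaubSolv
import Cfsg.Agent.Lib.Helper82.Constituent
import Cfsg.Agent.S0867
import Cfsg.Agent.S0887

/-!
# Characters of degree coprime to `|H|` in `X = K ⋊ H` (coprime orders)
-/

set_option autoImplicit false
set_option linter.unusedSectionVars false

namespace Cfsg.Agent.Lib.Helper77

open Subgroup Cfsg Cfsg.Agent.Lib.Helper20 Cfsg.Agent.Lib.Helper19 Cfsg.Agent.Lib.Helper79
open scoped ComplexConjugate

section Grp

variable {X : Type*} [Group X] (K H : Subgroup X) [hK : K.Normal]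

theorem index_eq_card_of_sup_top (hKH : K ⊔ H = ⊤) (hcop : (Nat.card K).Coprime (Nat.card H)) :
    K.index = Nat.card H := by
  have hd : K ⊓ H = ⊥ := (disjoint_of_coprime_natCard hcop).eq_bot
  rw [← relIndex_top_right, ← hKH, relIndex_sup_left, ← inf_relIndex_right, hd, relIndex_bot_left]

theorem isComplement'_of_sup_top [Finite X] (hKH : K ⊔ H = ⊤)
    (hcop : (Nat.card K).Coprime (Nat.card H)) : K.IsComplement' H := by
  apply isComplement'_of_coprime _ hcop
  rw [← index_eq_card_of_sup_top K H hKH hcop, K.card_mul_index]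

theorem exists_proj (hc : K.IsComplement' H) :
    ∃ π : X →* H, (∀ k ∈ K, π k = 1) ∧ (∀ h : H, π h = h) := by
  let e := SemidirectProduct.mulEquivSubgroup hc
  refine ⟨SemidirectProduct.rightHom.comp e.symm.toMonoidHom, ?_, ?_⟩
  · intro k hk
    have : e (SemidirectProduct.inl ⟨k, hk⟩) = k := by
      simp [e]
    show SemidirectProduct.rightHom (e.symm k) = 1
    rw [← this, MulEquiv.symm_apply_apply]
    simp
  · intro h
    have : e (SemidirectProduct.inr h) = h := by
      simp [e]
    show SemidirectProduct.rightHom (e.symm h) = h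
    rw [← this, MulEquiv.symm_apply_apply]
    simp

omit hK in
theorem hom_ext_of_sup_top {M : Type*} [Group M] (hKH : K ⊔ H = ⊤) (f f' : X →* M)
    (h1 : ∀ k ∈ K, f k = f' k) (h2 : ∀ h ∈ H, f h = f' h) : f = f' := by
  have h : (⊤ : Subgroup X) ≤ f.eqLocus f' := by
    rw [← hKH, sup_le_iff]
    exact ⟨fun g hg => h1 g hg, fun g hg => h2 g hg⟩
  ext x
  exact h (mem_top x)

end Grp

section Chr

variable {X : Type*} [Group X] [Fintype X] (K : Subgroup X) [hK : K.Normal] [Fintype K]

theorem twist_inj {E : X → ℂ} (hE : IsIrrCharacter X E)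
    (hEK : IsIrrCharacter K (fun k : K => E k)) (f f' : X →* ℂˣ) (hf : ∀ k ∈ K, f k = 1)
    (hf' : ∀ k ∈ K, f' k = 1) (h : homFun f * E = homFun f' * E) : f = f' := by
  ext x
  have h1 := navg_ext_self K hE hEK x
  have hex : ∃ k : K, E ((k : X) * x) ≠ 0 := by
    by_contra hcon
    have h0 : ∀ k : K, E ((k : X) * x) = 0 := fun k => by_contra fun hk => hcon ⟨k, hk⟩
    unfold navg at h1
    simp [h0] at h1
  obtain ⟨k, hk⟩ := hex
  have h2 := congrFun h ((k : X) * x)
  simp only [Pi.mul_apply, homFun_apply, map_mul, hf k k.2, hf' k k.2, one_mul] at h2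
  exact mul_right_cancel₀ hk h2

theorem exists_twist {χ E : X → ℂ} (hχ : IsIrrCharacter X χ) (hE : IsIrrCharacter X E)
    (hEK : IsIrrCharacter K (fun k : K => E k)) (hres : ∀ k : K, χ k = E k) :
    ∃ f : X →* ℂˣ, (∀ k ∈ K, f k = 1) ∧ χ = homFun f * E := by
  classical
  have hA : IsCharacter X (navg K (fun x => χ x * conj (E x))) :=
    navg_isCharacter K (isCharacter_mul (isCharacter_of_isIrrCharacter hχ)
      (isCharacter_conj (isCharacter_of_isIrrCharacter hE)))
  have h1 : navg K (fun x => χ x * conj (E x)) 1 = 1 := by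
    rw [navg_mul_conj_one]
    have : (fun k : K => χ k) = (fun k : K => E k) := funext hres
    rw [this]
    exact classInner_irr_self hEK
  obtain ⟨f, hf⟩ := exists_hom_of_linear _ ⟨hA, h1⟩
  have hfK : ∀ k ∈ K, f k = 1 := by
    intro k hk
    have h2 := navg_mul_left K (fun x => χ x * conj (E x)) ⟨k, hk⟩ 1
    rw [hf, homFun_apply, homFun_apply] at h2
    simp only [mul_one, map_one, Units.val_one] at h2
    exact Units.ext h2
  refine ⟨f, hfK, ?_⟩
  have hirr : IsIrrCharacter X (homFun f * E) :=
    Cfsg.Agent.Lib.Helper82.isIrr_linear_mul (isCharacter_homFun f).1 (isCharacter_homFun f).2 hE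
  have hlin : IsIrrCharacter X (homFun f) :=
    Cfsg.Agent.Lib.Helper82.isChar_linear_isIrr (isCharacter_homFun f).1 (isCharacter_homFun f).2
  have h3 : classInner χ (homFun f * E) = 1 := by
    have e1 : classInner χ (homFun f * E) =
        classInner (fun x => χ x * conj (E x)) (homFun f) := by
      unfold classInner
      congr 1
      refine Finset.sum_congr rfl fun x _ => ?_
      simp only [Pi.mul_apply, map_mul]
      ring
    rw [e1, ← classInner_navg_left K _ _ (fun n g => by
      rw [homFun_apply, homFun_apply, map_mul, hfK n n.2, one_mul]), hf]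
    exact classInner_irr_self hlin
  rw [classInner_irr hχ hirr] at h3
  split_ifs at h3 with h4
  · exact h4
  · exact absurd h3 zero_ne_one

end Chr

end Cfsg.Agent.Lib.Helper77
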