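import Mathlib
import Cfsg.Agent.Lib.Helper77.CoprimeDeg

/-!
# Counting characters of degree coprime to `|H|` in `X = K ⋊ H` (coprime orders)
-/

set_option autoImplicit false
set_option linter.unusedSectionVars false

namespace Cfsg.Agent.Lib.Helper77

open Subgroup Cfsg Cfsg.Agent.Lib.Helper20 Cfsg.Agent.Lib.Helper19 Cfsg.Agent.Lib.Helper79
open scoped ComplexConjugate

variable {X : Type*} [Group X] [Fintype X] (K H : Subgroup X) [hK : K.Normal] [Fintype K]

theorem coprime_degree_iff (hidx : K.index = Nat.card H)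
    (hcop : (Nat.card K).Coprime (Nat.card H)) {χ : X → ℂ} (hχ : IsIrrCharacter X χ) :
    (charDegree χ).Coprime (Nat.card H) ↔ IsIrrCharacter K (fun k : K => χ k) := by
  have hχc := isCharacter_of_isIrrCharacter hχ
  have hres : IsCharacter K (fun k : K => χ k) := isCharacter_restrict hχc K
  have hdeg : charDegree (fun k : K => χ k) = charDegree χ := rfl
  constructor
  · intro hc
    have h1 : (fun k : K => χ k) 1 ≠ 0 := IsIrrCharacter.one_ne_zero hχ
    obtain ⟨θ, hθ⟩ := Cfsg.Agent.Lib.Helper82.exists_irr_constituent hres h1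
    obtain ⟨h2, h3⟩ := Cfsg.Agent.S0887.result K χ hχ θ θ.2 hθ (charDegree χ)
      (charDegree (θ : K → ℂ)) (Cfsg.Agent.Lib.Helper82.isChar_one_eq hχc)
      (Cfsg.Agent.Lib.Helper82.isChar_one_eq (isCharacter_of_isIrrCharacter θ.2))
    rw [hidx] at h3
    have h4 : charDegree χ / charDegree (θ : K → ℂ) ∣ charDegree χ := Nat.div_dvd_of_dvd h2
    have h5 : charDegree χ / charDegree (θ : K → ℂ) = 1 :=
      Nat.eq_one_of_dvd_coprimes hc h4 h3
    have h6 : charDegree χ = charDegree (θ : K → ℂ) := by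
      have := Nat.div_mul_cancel h2
      rw [h5, one_mul] at this
      exact this.symm
    have := Cfsg.Agent.Lib.Helper82.eq_of_constituent_of_degree_le hres θ.2 hθ (by rw [hdeg, h6])
    rw [this]
    exact θ.2
  · intro hirr
    obtain ⟨d, hd1, hd2, _⟩ := irr_degree_dvd hirr
    have h1 : charDegree χ = d := by
      have h2 := Cfsg.Agent.Lib.Helper82.isChar_one_eq hres
      rw [hd1, hdeg] at h2
      exact_mod_cast h2.symm
    rw [h1]
    exact Nat.Coprime.coprime_dvd_left hd2 hcop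

theorem exists_ext_coprime (hKH : K ⊔ H = ⊤) (hidx : K.index = Nat.card H)
    (hcop : (Nat.card K).Coprime (Nat.card H)) {θ : K → ℂ} (hθ : IsIrrCharacter K θ)
    (hinv : ∀ h ∈ H, InvUnder K h θ) :
    ∃ E : X → ℂ, IsIrrCharacter X E ∧ ∀ k : K, E k = θ k := by
  have hall : (⊤ : Subgroup X) ≤ stabSub K θ := by
    rw [← hKH, sup_le_iff]
    exact ⟨le_stabSub_self K (isClassFunction_of_isCharacter (isCharacter_of_isIrrCharacter hθ)),
      fun h hh => ⟨by rw [normalizer_eq_top]; trivial, hinv h hh⟩⟩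
  obtain ⟨d, hd1, hd2, _⟩ := irr_degree_dvd hθ
  obtain ⟨f, hf⟩ := exists_detChar_hom (isCharacter_of_isIrrCharacter hθ)
  have hdo : detOrder θ ∣ Nat.card K := by
    unfold detOrder
    rw [hf, orderOf_homFun]
    apply orderOf_dvd_of_pow_eq_one
    ext k
    rw [MonoidHom.pow_apply, ← map_pow, pow_card_eq_one']
    simp
  have hc : Nat.Coprime K.index (detOrder θ * d) := by
    rw [hidx]
    exact Nat.Coprime.mul_right (Nat.Coprime.coprime_dvd_right hdo hcop.symm)
      (Nat.Coprime.coprime_dvd_right hd2 hcop.symm)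
  obtain ⟨E, ⟨h1, h2, _⟩, _⟩ := Cfsg.Agent.S0867.result K θ hθ
    (fun g n => (hall (mem_top g)).2 n _ rfl) d hd1 hc
  exact ⟨E, h1, h2⟩

theorem card_coprime_degree (hKH : K ⊔ H = ⊤) (hcop : (Nat.card K).Coprime (Nat.card H)) :
    Nat.card {χ : IrrCharacter X // (charDegree (χ : X → ℂ)).Coprime (Nat.card H)} =
      Nat.card {θ : IrrCharacter K // ∀ h ∈ H, InvUnder K h (θ : K → ℂ)} *
        Nat.card (H →* ℂˣ) := by
  have hidx := index_eq_card_of_sup_top K H hKH hcop
  obtain ⟨π, hπK, hπH⟩ := exists_proj K H (isComplement'_of_sup_top K H hKH hcop)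
  have hex : ∀ θ : {θ : IrrCharacter K // ∀ h ∈ H, InvUnder K h (θ : K → ℂ)},
      ∃ E : X → ℂ, IsIrrCharacter X E ∧ ∀ k : K, E k = (θ.1 : K → ℂ) k :=
    fun θ => exists_ext_coprime K H hKH hidx hcop θ.1.2 θ.2
  choose E hE1 hE2 using hex
  have hEK : ∀ θ, IsIrrCharacter K (fun k : K => E θ k) := fun θ => by
    rw [funext (hE2 θ)]; exact θ.1.2
  have hval : ∀ (θ : {θ : IrrCharacter K // ∀ h ∈ H, InvUnder K h (θ : K → ℂ)}) (μ : H →* ℂˣ)
      (k : K), (homFun (μ.comp π) * E θ) k = (θ.1 : K → ℂ) k := by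
    intro θ μ k
    rw [Pi.mul_apply, homFun_apply, MonoidHom.comp_apply, hπK k k.2, map_one, hE2]
    simp
  have hirr : ∀ (θ : {θ : IrrCharacter K // ∀ h ∈ H, InvUnder K h (θ : K → ℂ)}) (μ : H →* ℂˣ),
      IsIrrCharacter X (homFun (μ.comp π) * E θ) := fun θ μ =>
    Cfsg.Agent.Lib.Helper82.isIrr_linear_mul (isCharacter_homFun _).1 (isCharacter_homFun _).2 (hE1 θ)
  rw [← Nat.card_prod]
  symm
  refine Nat.card_congr (Equiv.ofBijective
    (fun a : {θ : IrrCharacter K // ∀ h ∈ H, InvUnder K h (θ : K → ℂ)} × (H →* ℂˣ) =>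
      (⟨⟨homFun (a.2.comp π) * E a.1, hirr a.1 a.2⟩,
        (coprime_degree_iff K H hidx hcop (hirr a.1 a.2)).2 (by
          rw [funext (hval a.1 a.2)]; exact a.1.1.2)⟩ :
        {χ : IrrCharacter X // (charDegree (χ : X → ℂ)).Coprime (Nat.card H)})) ⟨?_, ?_⟩)
  · rintro ⟨θ, μ⟩ ⟨θ', μ'⟩ h
    have h1 : homFun (μ.comp π) * E θ = homFun (μ'.comp π) * E θ' :=
      congrArg (fun a : {χ : IrrCharacter X // (charDegree (χ : X → ℂ)).Coprime (Nat.card H)} =>
        (a.1 : X → ℂ)) h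
    have h2 : θ = θ' := by
      apply Subtype.ext
      apply Subtype.ext
      funext k
      rw [← hval θ μ k, ← hval θ' μ' k, h1]
    subst h2
    have h3 := twist_inj K (hE1 θ) (hEK θ) (μ.comp π) (μ'.comp π)
      (fun k hk => by rw [MonoidHom.comp_apply, hπK k hk, map_one])
      (fun k hk => by rw [MonoidHom.comp_apply, hπK k hk, map_one]) h1
    have h4 : μ = μ' := by
      ext h
      have := congrArg (fun f : X →* ℂˣ => f h) h3
      simp only [MonoidHom.comp_apply, hπH] at this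
      rw [this]
    rw [h4]
  · rintro ⟨χ, hχ⟩
    have hχK := (coprime_degree_iff K H hidx hcop χ.2).1 hχ
    have hinv : ∀ h ∈ H, InvUnder K h (fun k : K => (χ : X → ℂ) k) := by
      intro h _ g g' hg
      show (χ : X → ℂ) g' = (χ : X → ℂ) g
      rw [hg]
      exact isClassFunction_of_isCharacter (isCharacter_of_isIrrCharacter χ.2) g h
    let θ : {θ : IrrCharacter K // ∀ h ∈ H, InvUnder K h (θ : K → ℂ)} := ⟨⟨_, hχK⟩, hinv⟩
    obtain ⟨f, hfK, hf⟩ := exists_twist K χ.2 (hE1 θ) (hEK θ) (fun k => (hE2 θ k).symm)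
    refine ⟨(θ, f.comp H.subtype), ?_⟩
    apply Subtype.ext
    apply Subtype.ext
    show homFun ((f.comp H.subtype).comp π) * E θ = (χ : X → ℂ)
    rw [hf]
    congr 2
    apply hom_ext_of_sup_top K H hKH
    · intro k hk
      rw [MonoidHom.comp_apply, hπK k hk, map_one, hfK k hk]
    · intro h hh
      have := hπH ⟨h, hh⟩
      rw [MonoidHom.comp_apply]
      show (f.comp H.subtype) (π ((⟨h, hh⟩ : H) : X)) = f h
      rw [this]
      rfl

end Cfsg.Agent.Lib.Helper77
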