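import Mathlib
import Cfsg.Agent.Lib.Helper77.CoprimeDeg2
import Cfsg.Agent.Lib.Helper79.InvAboveHall
import Cfsg.Agent.S0868

/-!
# Gallagher's correspondence along a surjection, canonical invariant extensions
-/

set_option autoImplicit false
set_option linter.unusedSectionVars false

namespace Cfsg.Agent.Lib.Helper77

open Subgroup Cfsg Cfsg.Agent.Lib.Helper20 Cfsg.Agent.Lib.Helper19 Cfsg.Agent.Lib.Helper79
  Cfsg.Agent.Lib.Helper5
open scoped ComplexConjugate

/-- a character with an irreducible pull-back is irreducible -/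
theorem isIrr_of_comp_irr {G H : Type*} [Group G] [Group H] [Finite G] [Finite H] (f : H →* G)
    {χ : G → ℂ} (hχ : IsCharacter G χ) (h : IsIrrCharacter H (χ ∘ f)) : IsIrrCharacter G χ := by
  have : Fintype G := Fintype.ofFinite _
  have : Fintype H := Fintype.ofFinite _
  have h1 : χ 1 ≠ 0 := by
    have := IsIrrCharacter.one_ne_zero h
    simpa using this
  obtain ⟨η, hη⟩ := Cfsg.Agent.Lib.Helper82.exists_irr_constituent hχ h1
  obtain ⟨Δ, hΔ, e⟩ := exists_add_of_constituent hχ η.2 hη
  have hηc := isCharacter_of_isIrrCharacter η.2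
  have hηf : IsCharacter H ((η : G → ℂ) ∘ f) := isCharacter_comp_hom hηc f
  have hΔf : IsCharacter H (Δ ∘ f) := isCharacter_comp_hom hΔ f
  obtain ⟨a, ha⟩ := isCharacter_classInner_nat hηf h
  obtain ⟨b, hb⟩ := isCharacter_classInner_nat hΔf h
  obtain ⟨d1, hd1⟩ := isCharacter_apply_one hηc
  obtain ⟨d2, hd2⟩ := isCharacter_apply_one hΔ
  have hd1pos : d1 ≠ 0 := by
    intro h0
    apply IsIrrCharacter.one_ne_zero η.2
    rw [hd1, h0]; simp
  have hdeg : (χ ∘ f) 1 = ((d1 + d2 : ℕ) : ℂ) := by
    rw [Function.comp_apply, map_one, e, Pi.add_apply, hd1, hd2]; push_cast; rfl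
  have hsum : a + b = 1 := by
    have h2 := classInner_irr_self h
    have h3 : χ ∘ f = (η : G → ℂ) ∘ f + Δ ∘ f := by rw [e]; rfl
    conv at h2 => lhs; arg 1; rw [h3]
    rw [classInner_add_left, ha, hb] at h2
    exact_mod_cast h2
  have l1 := IsCharacter.mult_mul_degree_le hηf h a (d1 + d2) d1 ha hdeg (by simpa using hd1)
  have l2 := IsCharacter.mult_mul_degree_le hΔf h b (d1 + d2) d2 hb hdeg (by simpa using hd2)
  have hd20 : d2 = 0 := by
    rcases Nat.eq_zero_or_pos a with h0 | h0
    · have hb1 : b = 1 := by omega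
      rw [hb1] at l2
      omega
    · have ha1 : a = 1 := by omega
      rw [ha1] at l1
      omega
  have : Δ = 0 := IsCharacter.eq_zero_of_one_eq_zero hΔ (by rw [hd2, hd20]; simp)
  rw [e, this, add_zero]
  exact η.2

theorem detChar_comp_equiv {G H : Type*} [Group G] [Group H] [Finite G] [Finite H] (e : H ≃* G)
    {χ : G → ℂ} (h : IsCharacter G χ) : detChar (χ ∘ e) = detChar χ ∘ e := by
  obtain ⟨k, ρ, rfl⟩ := h
  let σ : Representation ℂ H (Fin k → ℂ) := MonoidHom.comp ρ e.toMonoidHom
  have h1 : ρ.character ∘ e = σ.character := rfl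
  rw [h1, detChar_eq, detChar_eq]
  rfl

theorem detOrder_comp_equiv {G H : Type*} [Group G] [Group H] [Finite G] [Finite H] (e : H ≃* G)
    {χ : G → ℂ} (h : IsCharacter G χ) : detOrder (χ ∘ e) = detOrder χ := by
  unfold detOrder
  rw [detChar_comp_equiv e h]
  apply orderOf_eq_orderOf_iff.2
  intro n
  constructor
  · intro h1
    funext g
    have := congrFun h1 (e.symm g)
    simpa using this
  · intro h1
    funext g
    have := congrFun h1 (e g)
    simpa using this

section Gall

variable {T Y : Type*} [Group T] [Group Y] [Fintype T] [Fintype Y] (N : Subgroup T) [hN : N.Normal]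
  [Fintype N] {E : T → ℂ} (hE : IsIrrCharacter T E) (hEN : IsIrrCharacter N (fun n : N => E n))
  (π : T →* Y) (hπ : Function.Surjective π) (hker : ∀ t, π t = 1 ↔ t ∈ N)

include hE hEN hπ hker in
theorem gall_inner (a b : Y → ℂ) :
    classInner (fun t => E t * a (π t)) (fun t => E t * b (π t)) = classInner a b := by
  have e1 : classInner (fun t => E t * a (π t)) (fun t => E t * b (π t)) =
      classInner (fun g => E g * conj (E g)) (fun g => conj (a (π g)) * b (π g)) := by
    unfold classInner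
    congr 1
    apply Finset.sum_congr rfl
    intro g _
    simp only [map_mul, Complex.conj_conj]
    ring
  have hinv : ∀ (n : N) (g : T), conj (a (π (n * g))) * b (π (n * g)) =
      conj (a (π g)) * b (π g) := by
    intro n g
    rw [map_mul, (hker n).2 n.2, one_mul]
  rw [e1, ← classInner_navg_left N _ _ hinv, navg_mul_conj_eq_one N hE hEN,
    ← classInner_comp_surj π hπ a b]
  unfold classInner
  congr 1
  apply Finset.sum_congr rfl
  intro g _
  simp only [map_mul, Complex.conj_conj]
  ring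

include hE hEN hπ hker in
theorem gall_irr {β : Y → ℂ} (hβ : IsIrrCharacter Y β) :
    IsIrrCharacter T (fun t => E t * β (π t)) := by
  rw [isIrrCharacter_iff]
  refine ⟨isCharacter_mul (isCharacter_of_isIrrCharacter hE)
    (isCharacter_comp_hom (isCharacter_of_isIrrCharacter hβ) π), ?_⟩
  rw [gall_inner N hE hEN π hπ hker, classInner_irr_self hβ]

include hE hEN hπ hker in
theorem gall_inj {β β' : Y → ℂ} (hβ : IsIrrCharacter Y β) (hβ' : IsIrrCharacter Y β')
    (h : (fun t => E t * β (π t)) = fun t => E t * β' (π t)) : β = β' := by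
  by_contra hne
  have h1 := gall_inner N hE hEN π hπ hker β β'
  rw [← h, gall_inner N hE hEN π hπ hker, classInner_irr_self hβ, classInner_irr_ne hβ hβ' hne] at h1
  exact one_ne_zero h1

include hker in
theorem gall_over (β : Y → ℂ) :
    (fun n : N => E n * β (π n)) = β 1 • fun n : N => E n := by
  funext n
  rw [(hker n).2 n.2, Pi.smul_apply, smul_eq_mul, mul_comm]

include hE hEN hπ hker in
theorem gall_surj {ψ : T → ℂ} (hψ : IsIrrCharacter T ψ)
    (hov : classInner (fun n : N => ψ n) (fun n : N => E n) ≠ 0) :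
    ∃ β : Y → ℂ, IsIrrCharacter Y β ∧ ψ = fun t => E t * β (π t) := by
  obtain ⟨h1, -, -⟩ := Cfsg.Agent.S0868.result N E hE hEN ψ hψ _ rfl
  have hη := h1 hov
  have hnav : (fun g => (Nat.card N : ℂ)⁻¹ * ∑ n : N, ψ ((n : T) * g) * conj (E ((n : T) * g))) =
      navg N (fun g => ψ g * conj (E g)) := rfl
  rw [hnav] at hη
  obtain ⟨β, hβ, hβv⟩ := isIrr_deflate_surj π hπ hη (by
    intro x hx
    have := navg_mul_left N (fun g => ψ g * conj (E g)) ⟨x, (hker x).1 hx⟩ 1
    simpa using this)
  refine ⟨β, hβ, ?_⟩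
  have hirr := gall_irr N hE hEN π hπ hker hβ
  by_contra hne
  have h0 := classInner_irr_ne hψ hirr hne
  have e1 : classInner ψ (fun t => E t * β (π t)) =
      classInner (fun g => ψ g * conj (E g)) (fun g => β (π g)) := by
    unfold classInner
    congr 1
    apply Finset.sum_congr rfl
    intro g _
    simp only [map_mul]
    ring
  rw [e1, ← classInner_navg_left N _ _ (by
    intro n g
    rw [map_mul, (hker n).2 n.2, one_mul])] at h0
  have e2 : (fun g => β (π g)) = navg N (fun g => ψ g * conj (E g)) := funext hβv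
  rw [e2, classInner_irr_self hη] at h0
  exact one_ne_zero h0

end Gall

/-- canonical extension in the coprime situation; it is fixed by every automorphism fixing `θ` -/
theorem exists_canon_ext {T : Type*} [Group T] [Finite T] (N : Subgroup T) [hN : N.Normal]
    {θ : N → ℂ} (hθ : IsIrrCharacter N θ)
    (hinv : ∀ (g : T) (n : N), θ ⟨g * n * g⁻¹, hN.conj_mem (n : T) n.2 g⟩ = θ n)
    (hcop : (Nat.card N).Coprime N.index) :
    ∃ E : T → ℂ, IsIrrCharacter T E ∧ (∀ n : N, E n = θ n) ∧
      ∀ σ : T ≃* T, (∀ n : N, ∃ h : σ n ∈ N, θ ⟨σ n, h⟩ = θ n) → E ∘ σ = E := by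
  obtain ⟨d, hd1, hd2, _⟩ := irr_degree_dvd hθ
  obtain ⟨f, hf⟩ := exists_detChar_hom (isCharacter_of_isIrrCharacter hθ)
  have hdo : detOrder θ ∣ Nat.card N := by
    unfold detOrder
    rw [hf, orderOf_homFun]
    apply orderOf_dvd_of_pow_eq_one
    ext k
    rw [MonoidHom.pow_apply, ← map_pow, pow_card_eq_one']
    simp
  have hc : Nat.Coprime N.index (detOrder θ * d) :=
    Nat.Coprime.mul_right (Nat.Coprime.coprime_dvd_right hdo hcop.symm)
      (Nat.Coprime.coprime_dvd_right hd2 hcop.symm)
  obtain ⟨E, ⟨h1, h2, h3⟩, h4⟩ := Cfsg.Agent.S0867.result N θ hθ hinv d hd1 hc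
  refine ⟨E, h1, h2, ?_⟩
  intro σ hσ
  apply h4 _ (isIrrCharacter_comp_equiv σ h1)
  · intro n
    obtain ⟨h, e⟩ := hσ n
    rw [Function.comp_apply, ← e]
    exact h2 ⟨σ n, h⟩
  · rw [detOrder_comp_equiv σ (isCharacter_of_isIrrCharacter h1), h3]
    exact Nat.Coprime.coprime_dvd_right hdo hcop.symm

end Cfsg.Agent.Lib.Helper77
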