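import Mathlib
import Cfsg.Agent.Lib.Helper77.CoprimeDeg2
import Cfsg.Agent.Lib.Helper77.GlaubOver
import Cfsg.Agent.Lib.Helper82.Codegree
import Cfsg.Agent.Lib.Helper40.PComp
import Cfsg.Agent.S0867

/-!
# `|O^p(G)|` modulo `p` as a sum of squares of degrees
-/

set_option autoImplicit false
set_option linter.unusedSectionVars false

namespace Cfsg.Agent.Lib.Helper77

open Subgroup Cfsg Cfsg.Agent.Lib.Helper20 Cfsg.Agent.Lib.Helper19 Cfsg.Agent.Lib.Helper79

variable {G : Type*} [Group G] [Finite G]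

theorem isIrr_res_of_pow_index {p : ℕ} (hp : p.Prime) (N : Subgroup G) [N.Normal] (k : ℕ)
    (hidx : N.index = p ^ k) {χ : G → ℂ} (hχ : IsIrrCharacter G χ) (hd : ¬ p ∣ charDegree χ) :
    IsIrrCharacter N (fun n : N => χ n) := by
  classical
  have := Fintype.ofFinite G
  have hχc := isCharacter_of_isIrrCharacter hχ
  have hres : IsCharacter N (fun k : N => χ k) := isCharacter_restrict hχc N
  have hdeg : charDegree (fun k : N => χ k) = charDegree χ := rfl
  have h1 : (fun k : N => χ k) 1 ≠ 0 := IsIrrCharacter.one_ne_zero hχ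
  obtain ⟨θ, hθ⟩ := Cfsg.Agent.Lib.Helper82.exists_irr_constituent hres h1
  obtain ⟨h2, h3⟩ := Cfsg.Agent.S0887.result N χ hχ θ θ.2 hθ (charDegree χ)
    (charDegree (θ : N → ℂ)) (Cfsg.Agent.Lib.Helper82.isChar_one_eq hχc)
    (Cfsg.Agent.Lib.Helper82.isChar_one_eq (isCharacter_of_isIrrCharacter θ.2))
  rw [hidx] at h3
  have h4 : charDegree χ / charDegree (θ : N → ℂ) ∣ charDegree χ := Nat.div_dvd_of_dvd h2
  have hc : (charDegree χ).Coprime (p ^ k) :=
    Nat.Coprime.pow_right _ ((Nat.Prime.coprime_iff_not_dvd hp).2 hd).symm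
  have h5 : charDegree χ / charDegree (θ : N → ℂ) = 1 :=
    Nat.eq_one_of_dvd_coprimes hc h4 h3
  have h6 : charDegree χ = charDegree (θ : N → ℂ) := by
    have := Nat.div_mul_cancel h2
    rw [h5, one_mul] at this
    exact this.symm
  have := Cfsg.Agent.Lib.Helper82.eq_of_constituent_of_degree_le hres θ.2 hθ (by rw [hdeg, h6])
  rw [this]
  exact θ.2

theorem detOrder_coprime_pResidual {p : ℕ} (hp : p.Prime) {θ : pResidual p G → ℂ}
    (hθ : IsCharacter (pResidual p G) θ) : (detOrder θ).Coprime p := by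
  obtain ⟨f, hf⟩ := exists_detChar_hom hθ
  unfold detOrder
  rw [hf, orderOf_homFun]
  obtain ⟨m, hm⟩ : ∃ m, m = ordCompl[p] (Nat.card (pResidual p G)) := ⟨_, rfl⟩
  have hmc : m.Coprime p := by
    rw [hm]
    exact (Nat.coprime_ordCompl hp Nat.card_pos.ne').symm
  have hfm : f ^ m = 1 := by
    have hle : pResidual p G ≤ ((f ^ m).ker).map (pResidual p G).subtype := by
      unfold pResidual
      rw [closure_le]
      intro g hg
      have hgN : g ∈ pResidual p G := subset_closure hg
      refine ⟨⟨g, hgN⟩, ?_, rfl⟩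
      show (⟨g, hgN⟩ : pResidual p G) ∈ (f ^ m).ker
      rw [MonoidHom.mem_ker, MonoidHom.pow_apply, ← map_pow]
      have ho : orderOf (⟨g, hgN⟩ : pResidual p G) = orderOf g := by
        rw [← Subgroup.orderOf_coe]
      have hd : orderOf (⟨g, hgN⟩ : pResidual p G) ∣ m := by
        have h1 : orderOf (⟨g, hgN⟩ : pResidual p G) ∣ Nat.card (pResidual p G) :=
          orderOf_dvd_natCard _
        rw [← Nat.ordProj_mul_ordCompl_eq_self (Nat.card (pResidual p G)) p, ← hm] at h1
        refine Nat.Coprime.dvd_of_dvd_mul_left ?_ h1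
        rw [ho]
        exact Nat.Coprime.pow_right _ hg
      rw [orderOf_dvd_iff_pow_eq_one.1 hd, map_one]
    ext n
    obtain ⟨n', hn', hnn⟩ := hle n.2
    have : n' = n := Subtype.ext hnn
    rw [this] at hn'
    rw [MonoidHom.mem_ker.1 hn']
    rfl
  exact Nat.Coprime.coprime_dvd_left (orderOf_dvd_of_pow_eq_one hfm) hmc

/-- invariance under a Sylow `p`-subgroup implies invariance under `G`. -/
theorem invUnder_all_of_sylow {p : ℕ} [Fact p.Prime] (P : Sylow p G)
    {θ : pResidual p G → ℂ} (hθ : IsIrrCharacter (pResidual p G) θ)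
    (h : ∀ u ∈ (P : Subgroup G), InvUnder (pResidual p G) u θ) (g : G) :
    InvUnder (pResidual p G) g θ := by
  have hN := Cfsg.Agent.Lib.Helper40.pResidual_normal p G
  obtain ⟨r, hr, u, hu, rfl⟩ := Cfsg.Agent.Lib.Helper40.sylow_mul_pResidual P g
  have h1 : r ∈ stabSub (pResidual p G) θ := by
    refine ⟨?_, h r hr⟩
    rw [Subgroup.normalizer_eq_top]; trivial
  have h2 : u ∈ stabSub (pResidual p G) θ :=
    le_stabSub_self _ (isClassFunction_of_isCharacter (isCharacter_of_isIrrCharacter hθ)) hu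
  exact (mul_mem h1 h2).2

open Classical in
theorem card_pResidual_modEq_inv {p : ℕ} (hp : p.Prime) [Fintype (IrrCharacter (pResidual p G))] :
    (Nat.card (pResidual p G) : ℤ) ≡
      ∑ θ ∈ Finset.univ.filter (fun θ : IrrCharacter (pResidual p G) =>
        (∀ g : G, InvUnder (pResidual p G) g (θ : pResidual p G → ℂ)) ∧
          ¬ p ∣ charDegree (θ : pResidual p G → ℂ)),
        (charDegree (θ : pResidual p G → ℂ) : ℤ) ^ 2 [ZMOD p] := by
  have : Fact p.Prime := ⟨hp⟩
  have hN := Cfsg.Agent.Lib.Helper40.pResidual_normal p G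
  let P : Sylow p G := default
  have hPN : (P : Subgroup G) ≤ Subgroup.normalizer ((pResidual p G : Subgroup G) : Set G) := by
    rw [Subgroup.normalizer_eq_top]; exact le_top
  let _ := irrAct (pResidual p G) (P : Subgroup G) hPN
  obtain ⟨a, -, ha⟩ := orbit_sum P.isPGroup' (⊤ : AddSubgroup ℤ)
    (fun θ : IrrCharacter (pResidual p G) => (charDegree (θ : pResidual p G → ℂ) : ℤ) ^ 2)
    (by
      intro u θ
      have : charDegree ((u • θ : IrrCharacter (pResidual p G)) : pResidual p G → ℂ) =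
          charDegree (θ : pResidual p G → ℂ) := by
        unfold charDegree
        have h1 : ((u • θ : IrrCharacter (pResidual p G)) : pResidual p G → ℂ) 1 =
            (θ : pResidual p G → ℂ) 1 := by
          have := irrAct_smul_coe (pResidual p G) (P : Subgroup G) hPN u θ
          show (((irrAct (pResidual p G) (P : Subgroup G) hPN).smul u θ :
            IrrCharacter (pResidual p G)) : pResidual p G → ℂ) 1 = _
          rw [this, Function.comp_apply, map_one]
        rw [h1]
      show ((charDegree ((u • θ : IrrCharacter (pResidual p G)) : pResidual p G → ℂ) : ℕ) : ℤ) ^ 2 = _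
      rw [this])
    (fun _ => trivial)
  have hs := Cfsg.Agent.Lib.Helper82.sum_sq_charDegree (G := pResidual p G)
  have hs' : (Nat.card (pResidual p G) : ℤ) =
      ∑ θ : IrrCharacter (pResidual p G), (charDegree (θ : pResidual p G → ℂ) : ℤ) ^ 2 := by
    rw [← hs]; push_cast; rfl
  rw [hs', ha]
  have h1 : ∑ x ∈ Finset.univ.filter (fun x : IrrCharacter (pResidual p G) =>
        x ∈ MulAction.fixedPoints (P : Subgroup G) (IrrCharacter (pResidual p G))),
        (charDegree (x : pResidual p G → ℂ) : ℤ) ^ 2 + p • a ≡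
      ∑ x ∈ Finset.univ.filter (fun x : IrrCharacter (pResidual p G) =>
        x ∈ MulAction.fixedPoints (P : Subgroup G) (IrrCharacter (pResidual p G))),
        (charDegree (x : pResidual p G → ℂ) : ℤ) ^ 2 [ZMOD p] := by
    rw [Int.modEq_iff_dvd]
    refine ⟨-a, ?_⟩
    rw [nsmul_eq_mul]; ring
  refine h1.trans ?_
  rw [Finset.sum_filter, Finset.sum_filter]
  apply Int.ModEq.sum
  intro θ _
  by_cases hfix : θ ∈ MulAction.fixedPoints (P : Subgroup G) (IrrCharacter (pResidual p G))
  · have hall : ∀ g : G, InvUnder (pResidual p G) g (θ : pResidual p G → ℂ) :=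
      invUnder_all_of_sylow P θ.2 ((mem_fixedPoints_irrAct _ _ hPN θ).1 hfix)
    rw [if_pos hfix]
    by_cases hd : p ∣ charDegree (θ : pResidual p G → ℂ)
    · rw [if_neg (fun h => h.2 hd)]
      rw [Int.modEq_zero_iff_dvd]
      exact dvd_pow (Int.natCast_dvd_natCast.2 hd) two_ne_zero
    · rw [if_pos ⟨hall, hd⟩]
  · rw [if_neg hfix, if_neg]
    intro h
    exact hfix ((mem_fixedPoints_irrAct _ _ hPN θ).2 (fun u _ => h.1 u))

theorem card_pResidual_modEq {p : ℕ} (hp : p.Prime) :
    (Nat.card (pResidual p G) : ℤ) ≡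
      (∑ᶠ χ ∈ {χ : IrrCharacter G | ¬ p ∣ charDegree (χ : G → ℂ) ∧ ¬ p ∣ detOrder (χ : G → ℂ)},
        (charDegree (χ : G → ℂ) : ℤ) ^ 2) [ZMOD p] := by
  classical
  have : Fact p.Prime := ⟨hp⟩
  have hN := Cfsg.Agent.Lib.Helper40.pResidual_normal p G
  have := finite_irrCharacter (G := pResidual p G)
  have := Fintype.ofFinite (IrrCharacter (pResidual p G))
  obtain ⟨k, hk⟩ := IsPGroup.iff_card.1 (Cfsg.Agent.Lib.Helper40.isPGroup_quotient_pResidual p G)
  have hidx : (pResidual p G).index = p ^ k := by rw [Subgroup.index_eq_card, hk]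
  refine (card_pResidual_modEq_inv hp).trans ?_
  have h1irr : IsIrrCharacter (pResidual p G) (fun _ => (1 : ℂ)) :=
    Cfsg.Agent.Lib.Helper82.isChar_linear_isIrr isCharacter_one rfl
  let e : IrrCharacter G → IrrCharacter (pResidual p G) := fun χ =>
    if h : IsIrrCharacter (pResidual p G) (fun n : pResidual p G => (χ : G → ℂ) n) then ⟨_, h⟩
    else ⟨_, h1irr⟩
  have he : ∀ χ : IrrCharacter G, ¬ p ∣ charDegree (χ : G → ℂ) →
      ((e χ : IrrCharacter (pResidual p G)) : pResidual p G → ℂ) =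
        fun n : pResidual p G => (χ : G → ℂ) n := by
    intro χ hχ
    have h := isIrr_res_of_pow_index hp (pResidual p G) k hidx χ.2 hχ
    show ((if h : IsIrrCharacter (pResidual p G) (fun n : pResidual p G => (χ : G → ℂ) n)
      then (⟨_, h⟩ : IrrCharacter (pResidual p G)) else ⟨_, h1irr⟩ :
        IrrCharacter (pResidual p G)) : pResidual p G → ℂ) = _
    rw [dif_pos h]
  have hcopθ : ∀ θ : IrrCharacter (pResidual p G), ¬ p ∣ charDegree (θ : pResidual p G → ℂ) →
      Nat.Coprime (pResidual p G).index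
        (detOrder (θ : pResidual p G → ℂ) * charDegree (θ : pResidual p G → ℂ)) := by
    intro θ hθ
    rw [hidx]
    apply Nat.Coprime.pow_left
    apply Nat.Coprime.mul_right
    · exact (detOrder_coprime_pResidual hp (isCharacter_of_isIrrCharacter θ.2)).symm
    · exact (Nat.Prime.coprime_iff_not_dvd hp).2 hθ
  have hinvθ : ∀ θ : IrrCharacter (pResidual p G),
      (∀ g : G, InvUnder (pResidual p G) g (θ : pResidual p G → ℂ)) →
      ∀ (g : G) (n : pResidual p G), (θ : pResidual p G → ℂ)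
        ⟨g * n * g⁻¹, hN.conj_mem (n : G) n.2 g⟩ = (θ : pResidual p G → ℂ) n := by
    intro θ h g n
    exact h g n _ rfl
  rw [← finsum_mem_coe_finset]
  rw [finsum_mem_eq_of_bijOn e (t := ((Finset.univ.filter (fun θ : IrrCharacter (pResidual p G) =>
        (∀ g : G, InvUnder (pResidual p G) g (θ : pResidual p G → ℂ)) ∧
          ¬ p ∣ charDegree (θ : pResidual p G → ℂ)) : Finset (IrrCharacter (pResidual p G))) :
            Set (IrrCharacter (pResidual p G))))
        (g := fun θ => (charDegree (θ : pResidual p G → ℂ) : ℤ) ^ 2)]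
  · refine ⟨?_, ?_, ?_⟩
    · -- MapsTo
      rintro χ ⟨hχ1, hχ2⟩
      rw [Finset.mem_coe, Finset.mem_filter]
      refine ⟨Finset.mem_univ _, ?_, ?_⟩
      · intro g n n' hn
        rw [he χ hχ1]
        show (χ : G → ℂ) n' = (χ : G → ℂ) n
        rw [hn]
        exact Cfsg.Agent.Lib.Helper82.isChar_conj_eq (isCharacter_of_isIrrCharacter χ.2) _ _
      · rw [he χ hχ1]
        exact hχ1
    · -- InjOn
      rintro χ ⟨hχ1, hχ2⟩ χ' ⟨hχ'1, hχ'2⟩ hee
      have hd : ¬ p ∣ charDegree ((e χ : IrrCharacter (pResidual p G)) : pResidual p G → ℂ) := by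
        rw [he χ hχ1]; exact hχ1
      have hinv : ∀ g : G, InvUnder (pResidual p G) g
          ((e χ : IrrCharacter (pResidual p G)) : pResidual p G → ℂ) := by
        intro g n n' hn
        rw [he χ hχ1]
        show (χ : G → ℂ) n' = (χ : G → ℂ) n
        rw [hn]
        exact Cfsg.Agent.Lib.Helper82.isChar_conj_eq (isCharacter_of_isIrrCharacter χ.2) _ _
      obtain ⟨χ₀, -, hu⟩ := Cfsg.Agent.S0867.result (pResidual p G) _ (e χ).2
        (hinvθ (e χ) hinv) _
        (Cfsg.Agent.Lib.Helper82.isChar_one_eq (isCharacter_of_isIrrCharacter (e χ).2))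
        (hcopθ (e χ) hd)
      have hc : ∀ m : ℕ, ¬ p ∣ m → Nat.Coprime (pResidual p G).index m := by
        intro m hm
        rw [hidx]
        exact Nat.Coprime.pow_left _ ((Nat.Prime.coprime_iff_not_dvd hp).2 hm)
      have e1 := hu χ χ.2 (fun n => by rw [he χ hχ1]) (hc _ hχ2)
      have e2 := hu χ' χ'.2 (fun n => by rw [hee, he χ' hχ'1]) (hc _ hχ'2)
      exact Subtype.ext (e1.trans e2.symm)
    · -- SurjOn
      intro θ hθ
      rw [Finset.mem_coe, Finset.mem_filter] at hθ
      obtain ⟨-, hinv, hd⟩ := hθ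
      obtain ⟨χ₀, ⟨hχ₀, hres, hdet⟩, -⟩ := Cfsg.Agent.S0867.result (pResidual p G) _ θ.2
        (hinvθ θ hinv) _
        (Cfsg.Agent.Lib.Helper82.isChar_one_eq (isCharacter_of_isIrrCharacter θ.2))
        (hcopθ θ hd)
      have hdeg : charDegree χ₀ = charDegree (θ : pResidual p G → ℂ) := by
        unfold charDegree
        rw [← hres 1]
        rfl
      have hd0 : ¬ p ∣ charDegree χ₀ := by rw [hdeg]; exact hd
      refine ⟨⟨χ₀, hχ₀⟩, ⟨hd0, ?_⟩, ?_⟩
      · show ¬ p ∣ detOrder χ₀
        rw [hdet]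
        exact (Nat.Prime.coprime_iff_not_dvd hp).1
          (detOrder_coprime_pResidual hp (isCharacter_of_isIrrCharacter θ.2)).symm
      · apply Subtype.ext
        rw [he ⟨χ₀, hχ₀⟩ hd0]
        funext n
        exact hres n
  · rintro χ ⟨hχ1, hχ2⟩
    show _ = (charDegree ((e χ : IrrCharacter (pResidual p G)) : pResidual p G → ℂ) : ℤ) ^ 2
    rw [he χ hχ1]
    rfl

end Cfsg.Agent.Lib.Helper77
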