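import Mathlib

set_option autoImplicit false

namespace Cfsg.Agent.Lib.Helper77

open Subgroup

variable {G : Type*} [Group G]

/-- `i ↦ α ^ i` on `ZMod N` when `α ^ N = 1`. -/
noncomputable def zmodPow (α : G) (N : ℕ) (h : α ^ N = 1) : ZMod N →+ Additive G :=
  ZMod.lift N ⟨zmultiplesHom (Additive G) (Additive.ofMul α), by
    simp only [zmultiplesHom_apply, natCast_zsmul]
    rw [← ofMul_pow, h]; rfl⟩

theorem zmodPow_intCast (α : G) (N : ℕ) (h : α ^ N = 1) (k : ℤ) :
    (zmodPow α N h (k : ZMod N)).toMul = α ^ k := by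
  unfold zmodPow
  rw [ZMod.lift_coe]
  simp

theorem zmodPow_add (α : G) (N : ℕ) (h : α ^ N = 1) (i j : ZMod N) :
    (zmodPow α N h (i + j)).toMul = (zmodPow α N h i).toMul * (zmodPow α N h j).toMul := by
  rw [map_add]; rfl

theorem zmodPow_eq_one (α : G) (N : ℕ) (hN : orderOf α = N) (h : α ^ N = 1) (i : ZMod N)
    (hi : (zmodPow α N h i).toMul = 1) : i = 0 := by
  obtain ⟨k, rfl⟩ := ZMod.intCast_surjective i
  rw [zmodPow_intCast] at hi
  rw [ZMod.intCast_zmod_eq_zero_iff_dvd, ← hN]
  exact orderOf_dvd_iff_zpow_eq_one.2 hi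

theorem zpow_mul_of_conj_inv (α β : G) (hconj : β * α * β⁻¹ = α⁻¹) (k : ℤ) :
    α ^ k * β = β * α ^ (-k) := by
  have h1 : β * α ^ (-k) * β⁻¹ = α ^ k := by
    rw [← conj_zpow, hconj, inv_zpow, zpow_neg, inv_inv]
  calc α ^ k * β = β * α ^ (-k) * β⁻¹ * β := by rw [h1]
    _ = β * α ^ (-k) := by group

/-- Recognition of the generalized quaternion (dicyclic) group from generators and relations. -/
theorem nonempty_mulEquiv_quaternion [Finite G] (m : ℕ) [NeZero m] (α β : G)
    (hα : orderOf α = 2 * m) (hβ2 : β ^ 2 = α ^ m) (hconj : β * α * β⁻¹ = α⁻¹)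
    (hβ : β ∉ zpowers α) (hcard : Nat.card G = 4 * m) : Nonempty (G ≃* QuaternionGroup m) := by
  classical
  have h1 : α ^ (2 * m) = 1 := hα ▸ pow_orderOf_eq_one α
  let e : ZMod (2 * m) → G := fun i => (zmodPow α (2 * m) h1 i).toMul
  have e_int : ∀ k : ℤ, e (k : ZMod (2 * m)) = α ^ k := zmodPow_intCast α _ h1
  have e_add : ∀ i j, e (i + j) = e i * e j := zmodPow_add α _ h1
  have e_comm : ∀ i, e i * β = β * e (-i) := by
    intro i
    obtain ⟨k, rfl⟩ := ZMod.intCast_surjective i
    rw [← Int.cast_neg, e_int, e_int]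
    exact zpow_mul_of_conj_inv α β hconj k
  have e_m : e (m : ZMod (2 * m)) = β * β := by
    have : ((m : ℤ) : ZMod (2 * m)) = (m : ZMod (2 * m)) := by push_cast; rfl
    rw [← this, e_int, zpow_natCast, ← hβ2, pow_two]
  let f : QuaternionGroup m → G := fun q =>
    match q with
    | QuaternionGroup.a i => e i
    | QuaternionGroup.xa i => β * e i
  have f_mul : ∀ x y, f (x * y) = f x * f y := by
    rintro (i | i) (j | j)
    · show e (i + j) = e i * e j
      exact e_add i j
    · show β * e (j - i) = e i * (β * e j)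
      rw [← mul_assoc, e_comm, mul_assoc, ← e_add]
      congr 2; ring
    · show β * e (i + j) = β * e i * e j
      rw [e_add, mul_assoc]
    · show e ((m : ZMod (2 * m)) + j - i) = β * e i * (β * e j)
      rw [mul_assoc β, ← mul_assoc (e i), e_comm, mul_assoc β (e (-i)), ← e_add, ← mul_assoc, ← e_m, ← e_add]
      congr 1; ring
  let F : QuaternionGroup m →* G := MonoidHom.mk' f f_mul
  have hinj : Function.Injective F := by
    rw [injective_iff_map_eq_one]
    rintro (i | i) hi
    · have : e i = 1 := hi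
      rw [zmodPow_eq_one α _ hα h1 i this]; rfl
    · exfalso
      have h2 : β * e i = 1 := hi
      apply hβ
      obtain ⟨k, rfl⟩ := ZMod.intCast_surjective i
      rw [e_int] at h2
      have : β = α ^ (-k) := by
        rw [zpow_neg]; exact eq_inv_of_mul_eq_one_left h2
      rw [this]
      exact zpow_mem (mem_zpowers α) _
  have hbij : Function.Bijective F := by
    have : Finite (QuaternionGroup m) := Finite.of_fintype _
    rw [Nat.bijective_iff_injective_and_card]
    refine ⟨hinj, ?_⟩
    rw [hcard, Nat.card_eq_fintype_card, QuaternionGroup.card]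
  exact ⟨(MulEquiv.ofBijective F hbij).symm⟩

end Cfsg.Agent.Lib.Helper77
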